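import Cfsg.Agent.H558.Deg4Data.CompQuat
import Cfsg.Agent.H558.Deg4Data.QuotQ
import Cfsg.Agent.H574.Deg4.CaseOne
import Cfsg.Agent.H553.GoodStell
import Cfsg.Agent.H553.GoodGen
import Cfsg.Agent.H553.GoodAsm

/-!
# The rows `PSL`, `PSp`, `PSU` in odd characteristic `p ∉ π`, `2 ∈ π`, `3 ∉ π`
-/

set_option autoImplicit false

namespace Cfsg.Agent.H558.Deg4Data

open Subgroup Cfsg Cfsg.Agent.H988.CPi Cfsg.Agent.H553.ExtRed

universe u

/-- conjugating the data -/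
theorem SData.conj {S : Type*} [Group S] {P : ℕ → Prop} {m : ℕ} {x y : Fin m → S} (h : SData P x y) (g : S) :
    SData P (fun i => g * x i * g⁻¹) (fun i => g * y i * g⁻¹) := by
  refine ⟨fun i => ?_, fun i => ?_, fun i => ?_, ?_, fun i r hr => (h.cx i r hr).conj g, fun i r hr => (h.cy i r hr).conj g,
    fun r hr a ho hcon => ?_⟩
  · rw [conj_pow, h.four, mul_one, mul_inv_cancel]
  · have h1 : g * y i * g⁻¹ * (g * y i * g⁻¹) = g * (y i * y i) * g⁻¹ := by group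
    have h2 : g * x i * g⁻¹ * (g * x i * g⁻¹) = g * (x i * x i) * g⁻¹ := by group
    rw [h1, h2, h.sq]
  · have h1 : g * y i * g⁻¹ * (g * x i * g⁻¹) * (g * y i * g⁻¹)⁻¹ = g * (y i * x i * (y i)⁻¹) * g⁻¹ := by group
    rw [h1, h.inv]; group
  · have h1 := h.two.map (MulAut.conj g).toMonoidHom
    rw [MonoidHom.map_closure, Set.image_union, ← Set.range_comp, ← Set.range_comp] at h1
    exact h1
  · refine h.tor r hr (g⁻¹ * a * g) ?_ fun i => ?_
    · have h1 : g⁻¹ * a * g = MulAut.conj g⁻¹ a := by simp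
      rw [h1, MulEquiv.orderOf_eq, ho]
    · have h1 := hcon i
      calc g⁻¹ * a * g * x i = g⁻¹ * (a * (g * x i * g⁻¹)) * g := by group
        _ = g⁻¹ * (g * x i * g⁻¹ * a) * g := by rw [h1]
        _ = x i * (g⁻¹ * a * g) := by group

/-- restricting the data to a subgroup which contains the elements -/
theorem SData.restrict {S : Type*} [Group S] {P : ℕ → Prop} {m : ℕ} {x y : Fin m → S} (h : SData P x y) (H : Subgroup S)
    (hx : ∀ i, x i ∈ H) (hy : ∀ i, y i ∈ H) :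
    SData P (fun i => (⟨x i, hx i⟩ : H)) (fun i => (⟨y i, hy i⟩ : H)) := by
  refine ⟨fun i => Subtype.ext (h.four i), fun i => Subtype.ext (h.sq i), fun i => Subtype.ext (h.inv i), ?_,
    fun i r hr => (h.cx i r hr).of_subgroup, fun i r hr => (h.cy i r hr).of_subgroup, fun r hr a ho hcon => ?_⟩
  · have h1 : closure (Set.range (fun i => (⟨x i, hx i⟩ : H)) ∪ Set.range (fun i => (⟨y i, hy i⟩ : H)))
        ≤ (closure (Set.range x ∪ Set.range y)).comap H.subtype := by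
      rw [closure_le]
      rintro a (⟨i, rfl⟩ | ⟨i, rfl⟩)
      · exact subset_closure (Or.inl ⟨i, rfl⟩)
      · exact subset_closure (Or.inr ⟨i, rfl⟩)
    exact (h.two.comap_of_injective H.subtype H.subtype_injective).to_le h1
  · exact h.tor r hr a (by rw [orderOf_coe]; exact ho) fun i => congrArg Subtype.val (hcon i)

/-- the data in a Hall subgroup -/
theorem exists_sData_hall {S : Type u} [Group S] [Finite S] {π : Set ℕ} (h2 : 2 ∈ π) {P : ℕ → Prop} {m : ℕ}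
    {x y : Fin m → S} (h : SData P x y) (H : Subgroup S) (hH : IsPiHall π H) :
    ∃ x' y' : Fin m → H, SData P x' y' := by
  have hF : Fact (Nat.Prime 2) := ⟨Nat.prime_two⟩
  obtain ⟨Q, hQ⟩ := h.two.exists_le_sylow
  obtain ⟨T⟩ : Nonempty (Sylow 2 H) := inferInstance
  have h1 : IsPGroup 2 ((T : Subgroup H).map H.subtype) := T.2.map _
  have hi : ¬ 2 ∣ ((T : Subgroup H).map H.subtype).index := by
    have h3 : ((T : Subgroup H).map H.subtype).index = (T : Subgroup H).index * H.index := by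
      have := index_map (T : Subgroup H) H.subtype
      rwa [H.ker_subtype, sup_bot_eq, range_subtype] at this
    rw [h3, Nat.prime_two.dvd_mul, not_or]
    exact ⟨T.not_dvd_index, hH.2 2 Nat.prime_two h2⟩
  let R : Sylow 2 S := h1.toSylow hi
  have hRH : (R : Subgroup S) ≤ H := by
    show (T : Subgroup H).map H.subtype ≤ H
    exact map_subtype_le _
  obtain ⟨g, hg⟩ := MulAction.exists_smul_eq S Q R
  have hmem : ∀ a ∈ (Q : Subgroup S), g * a * g⁻¹ ∈ H := by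
    intro a ha
    apply hRH
    rw [← hg, Sylow.coe_subgroup_smul]
    exact ⟨a, ha, rfl⟩
  exact ⟨_, _, (h.conj g).restrict H (fun i => hmem _ (hQ (subset_closure (Or.inl ⟨i, rfl⟩))))
    (fun i => hmem _ (hQ (subset_closure (Or.inr ⟨i, rfl⟩))))⟩

/-- the row -/
theorem good_of_hasDegQ {S : Type u} [Group S] [Finite S] [IsSimpleGroup S] (hna : ¬ IsMulCommutative S) {π : Set ℕ}
    (h2 : 2 ∈ π) (h3 : 3 ∉ π) {p : ℕ} (hp : p.Prime) (hpπ : p ∉ π) (hS : HasDegQ S p) (H : Subgroup S)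
    (hH : IsPiHall π H) : Good π S := by
  obtain ⟨K, iK, iKf, q, ι, iι, iι', G, iG, iGf, ρ, f, hch, hq, hK, hd, hQ, hdet, hf, hker⟩ := hS
  by_cases ht : ∃ t : ℕ, t.Prime ∧ t ∈ π ∧ t ≠ 2 ∧ t ∣ q ^ 2 - 1
  · obtain ⟨t, htp, htπ, ht2, htd⟩ := ht
    have h5 : 5 ≤ t := by
      have h4 : t ≠ 3 := fun h => h3 (h ▸ htπ)
      have h5 : t ≠ 4 := by rintro rfl; exact absurd htp (by norm_num)
      have := htp.two_le
      omega
    obtain ⟨z, hz, hzr⟩ := hd.prm t htp ht2 htd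
    exact Cfsg.Agent.H574.Deg4.case_one hp ρ hd.inj hna f hf hker h3 hpπ htp htπ h5 hz hzr
      (Cfsg.Agent.H574.Deg4.map_ne_one ρ hd.inj f hker htp h5 hz hzr (hdet z)) H hH
  · have hp2 : p ≠ 2 := fun h => hpπ (h ▸ h2)
    obtain ⟨m, x, y, hD⟩ := exists_sData hK hch hp hp2 hd hQ hf hker
    obtain ⟨x', y', hD'⟩ := exists_sData_hall h2 hD H hH
    have h3H : ¬ 3 ∣ Nat.card H := fun h => h3 (hH.1 3 Nat.prime_three h)
    refine good_of_stellmacher hna h2 H hH h3H (centralizer_pCore_le_of_sData h3H hD' fun r hr hr2 hrd => ?_)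
    have hrπ : r ∈ π := hH.1 r hr hrd
    refine ⟨hr, ?_, fun h => hpπ (h ▸ hrπ), fun h => ht ⟨r, hr, hrπ, hr2, h⟩⟩
    have h4 : r ≠ 3 := fun h => h3 (h ▸ hrπ)
    have h5 : r ≠ 4 := by rintro rfl; exact absurd hr (by norm_num)
    have := hr.two_le
    omega

variable {π : Set ℕ} {S : Type u} [Group S] [Finite S] [IsSimpleGroup S]

theorem rw_of_hasDegQ (hna : ¬ IsMulCommutative S) (hE : IsEPiGroup π S) (h2 : 2 ∈ π) (h3 : 3 ∉ π) {p : ℕ} (hp : p.Prime)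
    (hpπ : p ∉ π) (hS : HasDegQ S p) : Rw π S :=
  good_or_pi hE h2 (two_dvd_card hna) fun H hH _ _ => good_of_hasDegQ hna h2 h3 hp hpπ hS H hH

theorem rw_psl (hna : ¬ IsMulCommutative S) (hE : IsEPiGroup π S) (h2 : 2 ∈ π) (h3 : 3 ∉ π) (p : ℕ) (hp : p.Prime)
    (hpπ : p ∉ π) (h : IsPSLChar p S) : Rw π S := by
  obtain ⟨F, iF, iFt, hc, n, hn, -, ⟨e⟩⟩ := h
  exact rw_of_hasDegQ hna hE h2 h3 hp hpπ (hasDegQ_PSL hp (fun h => hpπ (h ▸ h2)) hn e)

theorem rw_psp (hna : ¬ IsMulCommutative S) (hE : IsEPiGroup π S) (h2 : 2 ∈ π) (h3 : 3 ∉ π) (p : ℕ) (hp : p.Prime)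
    (hpπ : p ∉ π) (h : IsPSpChar p S) : Rw π S := by
  obtain ⟨F, iF, iFt, hc, m, hm, -, ⟨e⟩⟩ := h
  exact rw_of_hasDegQ hna hE h2 h3 hp hpπ (hasDegQ_PSp hp (fun h => hpπ (h ▸ h2)) (by omega) e)

theorem rw_psu (hna : ¬ IsMulCommutative S) (hE : IsEPiGroup π S) (h2 : 2 ∈ π) (h3 : 3 ∉ π) (p : ℕ) (hp : p.Prime)
    (hpπ : p ∉ π) (h : IsPSUChar p S) : Rw π S := by
  obtain ⟨F, iF, iFt, hc, n, q, hF, hn, -, ⟨e⟩⟩ := h
  exact rw_of_hasDegQ hna hE h2 h3 hp hpπ (hasDegQ_PSU hp (fun h => hpπ (h ▸ h2)) hF hn e)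

end Cfsg.Agent.H558.Deg4Data
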