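import Mathlib

/-!
# Two-dimensional blocks in matrix groups

`blk U W B = 1 + U (B - 1) W` with `W U = 1` embeds `2 × 2` matrices; it preserves determinants.  The trace of the inverse of a matrix
of determinant one which differs from the identity by a matrix of rank at most two equals the trace of the matrix.
-/

namespace Cfsg.Agent.H558.Deg4Data

open Matrix

section Blk

variable {K : Type*} [Field K] {ι : Type*} [Fintype ι] [DecidableEq ι]

/-- The embedding `B ↦ 1 + U (B - 1) W` of `2 × 2` matrices. -/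
def blk (U : Matrix ι (Fin 2) K) (W : Matrix (Fin 2) ι K) (B : Matrix (Fin 2) (Fin 2) K) : Matrix ι ι K :=
  1 + U * (B - 1) * W

variable {U : Matrix ι (Fin 2) K} {W : Matrix (Fin 2) ι K}

theorem blk_one : blk U W 1 = 1 := by simp [blk]

theorem blk_mul (h : W * U = 1) (A B : Matrix (Fin 2) (Fin 2) K) :
    blk U W (A * B) = blk U W A * blk U W B := by
  have h1 : U * (A - 1) * W * (U * (B - 1) * W) = U * ((A - 1) * (B - 1)) * W := by
    calc U * (A - 1) * W * (U * (B - 1) * W) = U * (A - 1) * (W * U) * (B - 1) * W := by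
          simp only [Matrix.mul_assoc]
      _ = U * ((A - 1) * (B - 1)) * W := by rw [h, Matrix.mul_one]; simp only [Matrix.mul_assoc]
  have h2 : (A - 1) * (B - 1) = (A * B - 1) - (A - 1) - (B - 1) := by
    rw [Matrix.sub_mul, Matrix.mul_sub, Matrix.mul_sub]; simp only [Matrix.mul_one, Matrix.one_mul]; abel
  unfold blk
  rw [Matrix.add_mul, Matrix.mul_add, Matrix.mul_add, h1, h2]
  simp only [Matrix.mul_sub, Matrix.sub_mul, Matrix.mul_one, Matrix.one_mul]
  abel

theorem det_blk (h : W * U = 1) (B : Matrix (Fin 2) (Fin 2) K) : (blk U W B).det = B.det := by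
  unfold blk
  rw [Matrix.mul_assoc, Matrix.det_one_add_mul_comm, Matrix.mul_assoc, h, Matrix.mul_one]
  congr 1
  abel

theorem rank_blk_sub_one (B : Matrix (Fin 2) (Fin 2) K) : (blk U W B - 1).rank ≤ 2 := by
  have : blk U W B - 1 = U * ((B - 1) * W) := by unfold blk; rw [Matrix.mul_assoc]; abel
  rw [this]
  refine (Matrix.rank_mul_le_left _ _).trans ?_
  simpa using Matrix.rank_le_card_width U

theorem blk_pow (h : W * U = 1) (B : Matrix (Fin 2) (Fin 2) K) (k : ℕ) : blk U W (B ^ k) = blk U W B ^ k := by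
  induction k with
  | zero => simp [blk_one]
  | succ k ih => rw [pow_succ, pow_succ, blk_mul h, ih]

theorem blk_mulVec (h : W * U = 1) (B : Matrix (Fin 2) (Fin 2) K) (v : Fin 2 → K) :
    (blk U W B) *ᵥ (U *ᵥ v) = U *ᵥ (B *ᵥ v) := by
  have h1 : blk U W B * U = U * B := by
    unfold blk
    rw [Matrix.add_mul, Matrix.mul_assoc _ W U, h, Matrix.mul_one, Matrix.mul_sub, Matrix.mul_one, Matrix.one_mul]
    abel
  rw [Matrix.mulVec_mulVec, h1, ← Matrix.mulVec_mulVec]

theorem blk_mulVec_of_eq_zero {v : ι → K} (h : W *ᵥ v = 0) (B : Matrix (Fin 2) (Fin 2) K) :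
    (blk U W B) *ᵥ v = v := by
  unfold blk
  rw [Matrix.add_mulVec, Matrix.one_mulVec, ← Matrix.mulVec_mulVec, h, Matrix.mulVec_zero, add_zero]

theorem blk_transpose (B : Matrix (Fin 2) (Fin 2) K) : (blk U Uᵀ B)ᵀ = blk U Uᵀ Bᵀ := by
  unfold blk
  simp [Matrix.transpose_add, Matrix.transpose_mul, Matrix.transpose_sub, Matrix.mul_assoc]

theorem blk_injective (h : W * U = 1) : Function.Injective (blk U W) := by
  intro A B hAB
  have h1 : W * blk U W A * U = W * blk U W B * U := by rw [hAB]
  have h2 : ∀ C : Matrix (Fin 2) (Fin 2) K, W * blk U W C * U = C := by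
    intro C
    unfold blk
    calc W * (1 + U * (C - 1) * W) * U = W * U + (W * U) * (C - 1) * (W * U) := by
          simp only [Matrix.mul_add, Matrix.add_mul, Matrix.mul_one, Matrix.mul_assoc]
      _ = C := by rw [h, Matrix.one_mul, Matrix.mul_one]; abel
  rwa [h2, h2] at h1

end Blk

section Unit

variable {K : Type*} [Field K] {ι : Type*} [Fintype ι] [DecidableEq ι]

/-- The matrix with columns the unit vectors `e 0`, `e 1`. -/
def colU (e : Fin 2 → ι) : Matrix ι (Fin 2) K := fun i k => if i = e k then 1 else 0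

theorem colU_transpose_mul (e : Fin 2 → ι) (he : Function.Injective e) :
    (colU (K := K) e)ᵀ * colU (K := K) e = 1 := by
  ext k l
  rw [Matrix.mul_apply]
  simp only [Matrix.transpose_apply, colU]
  rw [Finset.sum_eq_single (e k)]
  · by_cases hkl : k = l
    · subst hkl; simp
    · have : e k ≠ e l := fun h => hkl (he h)
      simp [hkl, this]
  · intro i _ hi; simp [hi]
  · intro h; exact absurd (Finset.mem_univ _) h

theorem colU_mulVec (e : Fin 2 → ι) (v : Fin 2 → K) (i : ι) :
    (colU (K := K) e *ᵥ v) i = ∑ k, if i = e k then v k else 0 := by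
  simp [Matrix.mulVec, dotProduct, colU]

theorem colU_transpose_mulVec (e : Fin 2 → ι) (v : ι → K) :
    (colU (K := K) e)ᵀ *ᵥ v = fun k => v (e k) := by
  ext k
  simp [Matrix.mulVec, dotProduct, colU]

end Unit

section Trace

variable {K : Type*} [Field K] {ι : Type*} [Fintype ι] [DecidableEq ι]

/-- Rank factorisation through `K²`. -/
theorem exists_mul_of_rank_le_two (N : Matrix ι ι K) (hN : N.rank ≤ 2) :
    ∃ (U : Matrix ι (Fin 2) K) (W : Matrix (Fin 2) ι K), N = U * W := by
  classical
  set R := LinearMap.range N.mulVecLin with hR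
  have hr : Module.finrank K R ≤ 2 := hN
  obtain ⟨f, hf⟩ : ∃ f : R →ₗ[K] (Fin 2 → K), Function.Injective f := by
    have h2 : Module.finrank K R ≤ Module.finrank K (Fin 2 → K) := by simpa using hr
    refine lift_rank_le_iff_exists_linearMap.1 ?_
    rw [← Module.finrank_eq_rank, ← Module.finrank_eq_rank, Cardinal.lift_natCast, Cardinal.lift_natCast]
    exact_mod_cast h2
  obtain ⟨g, hg⟩ := f.exists_leftInverse_of_injective (LinearMap.ker_eq_bot.2 hf)
  refine ⟨LinearMap.toMatrix' (R.subtype ∘ₗ g), LinearMap.toMatrix' (f ∘ₗ N.mulVecLin.rangeRestrict), ?_⟩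
  rw [← LinearMap.toMatrix'_comp]
  have h3 : (R.subtype ∘ₗ g) ∘ₗ (f ∘ₗ N.mulVecLin.rangeRestrict) = N.mulVecLin := by
    ext1 v
    have : g (f (N.mulVecLin.rangeRestrict (Pi.single v 1))) = N.mulVecLin.rangeRestrict (Pi.single v 1) := by
      rw [← LinearMap.comp_apply, hg]; rfl
    ext i
    simp only [LinearMap.comp_apply, LinearMap.single_apply] at *
    rw [this]
    rfl
  rw [h3]
  ext i j
  simp [LinearMap.toMatrix'_apply]

/-- A `2 × 2` identity. -/
theorem trace_two (A : Matrix (Fin 2) (Fin 2) K) (h : (1 + A).det = 1) :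
    (1 + A)⁻¹ = (1 + A.trace) • (1 : Matrix (Fin 2) (Fin 2) K) - A := by
  have h1 : (1 + A) * ((1 + A.trace) • (1 : Matrix (Fin 2) (Fin 2) K) - A) = 1 := by
    rw [Matrix.det_fin_two] at h
    simp only [Matrix.add_apply, Matrix.one_apply_eq, Matrix.one_apply, Fin.isValue] at h
    norm_num at h
    ext i j
    rw [Matrix.mul_apply, Fin.sum_univ_two]
    simp only [Matrix.trace_fin_two]
    fin_cases i <;> fin_cases j <;> simp <;> first | linear_combination h | linear_combination -h | ring
  exact Matrix.inv_eq_right_inv h1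

theorem trace_mul_two (A : Matrix (Fin 2) (Fin 2) K) (h : (1 + A).det = 1) :
    ((1 + A)⁻¹ * A).trace = - A.trace := by
  rw [trace_two A h]
  rw [Matrix.det_fin_two] at h
  simp only [Matrix.add_apply, Matrix.one_apply_eq, Matrix.one_apply, Fin.isValue] at h
  norm_num at h
  simp only [Matrix.trace_fin_two, Matrix.mul_apply, Fin.sum_univ_two, Matrix.sub_apply, Matrix.smul_apply,
    Matrix.one_apply_eq, Matrix.one_apply, smul_eq_mul, Fin.isValue]
  norm_num
  linear_combination 2 * h

/-- **A matrix of determinant one which is the identity up to rank two has the same trace as its inverse.** -/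
theorem trace_inv_eq (g : Matrix ι ι K) (hdet : g.det = 1) (hr : (g - 1).rank ≤ 2) :
    (g⁻¹).trace = g.trace := by
  obtain ⟨U, W, hUW⟩ := exists_mul_of_rank_le_two (g - 1) hr
  have hg : g = 1 + U * W := by rw [← hUW]; abel
  have hA : (1 + W * U).det = 1 := by rw [← Matrix.det_one_add_mul_comm, ← hg, hdet]
  have hC : (1 + W * U) * (1 + W * U)⁻¹ = 1 := Matrix.mul_nonsing_inv _ (by rw [hA]; exact isUnit_one)
  set C := (1 + W * U)⁻¹ with hCdef
  have hinv : g * (1 - U * C * W) = 1 := by
    have h1 : U * W * (U * C * W) = U * (W * U * C) * W := by simp only [Matrix.mul_assoc]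
    have h2 : W * U * C = 1 - C := by
      rw [Matrix.add_mul, Matrix.one_mul] at hC
      rw [← hC]; abel
    rw [hg, Matrix.add_mul, Matrix.mul_sub, Matrix.mul_sub, h1, h2]
    simp only [Matrix.one_mul, Matrix.mul_one, Matrix.mul_sub, Matrix.sub_mul]
    abel
  rw [Matrix.inv_eq_right_inv hinv, hg, Matrix.trace_sub, Matrix.trace_add, Matrix.mul_assoc,
    Matrix.trace_mul_comm U (C * W), Matrix.mul_assoc, trace_mul_two (W * U) hA, Matrix.trace_mul_comm U W]
  ring

end Trace

end Cfsg.Agent.H558.Deg4Data
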