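import Cfsg.Agent.H558.Deg4Data.SData
import Cfsg.Agent.H553.GoodInv
import Cfsg.Agent.ThreePrime.AutQuot
import Cfsg.Agent.Involutions.BaerSuzuki

/-!
# Elements acting as involutions on a quasisimple subgroup invert an element of odd order
-/

namespace Cfsg.Agent.H558.Deg4Data

open Subgroup Cfsg Cfsg.Agent.H167.OP Cfsg.Agent.ThreePrime.AutQuot Cfsg.Agent.SignalizersComponents

variable {H : Type*} [Group H]

/-- conjugation by an element of the normaliser -/
noncomputable def cjA (Y : Subgroup H) {u : H} (hu : u ∈ normalizer (Y : Set H)) : MulAut Y :=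
  Y.normalizerMonoidHom ⟨u, hu⟩

theorem coe_cjA (Y : Subgroup H) {u : H} (hu : u ∈ normalizer (Y : Set H)) (a : Y) :
    ((cjA Y hu a : Y) : H) = u * a * u⁻¹ := rfl

theorem commutes_of_center {Y : Subgroup H} (hY : IsQuasisimple Y) {u : H} (hu : u ∈ normalizer (Y : Set H))
    (h : ∀ a : Y, (cjA Y hu a) * a⁻¹ ∈ center Y) : ∀ a ∈ Y, u * a = a * u := by
  have h1 : autQuot Y (cjA Y hu) = 1 := by
    ext x
    obtain ⟨a, rfl⟩ := QuotientGroup.mk_surjective x
    rw [autQuot_mk, MulAut.one_apply, QuotientGroup.eq]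
    have h2 := h a
    have h3 : (cjA Y hu a)⁻¹ * a = a⁻¹ * ((cjA Y hu a) * a⁻¹)⁻¹ * a := by group
    rw [h3]
    have h4 : (center Y).Normal := inferInstance
    have h5 := h4.conj_mem _ (inv_mem h2) a⁻¹
    rwa [inv_inv] at h5
  have h2 := eq_one_of_autQuot_eq_one hY.1 h1
  intro a ha
  have h3 : ((cjA Y hu ⟨a, ha⟩ : Y) : H) = a := by rw [h2]; rfl
  rw [coe_cjA] at h3
  change u * a * u⁻¹ = a at h3
  exact mul_inv_eq_iff_eq_mul.1 h3

/-- the group `Y ⟨u⟩` -/
def joinU (Y : Subgroup H) {u : H} (hu : u ∈ normalizer (Y : Set H)) : Subgroup H where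
  carrier := {g | ∃ a ∈ Y, ∃ k : ℤ, g = a * u ^ k}
  one_mem' := ⟨1, Y.one_mem, 0, by simp⟩
  mul_mem' := by
    rintro _ _ ⟨a, ha, k, rfl⟩ ⟨b, hb, l, rfl⟩
    refine ⟨a * (u ^ k * b * (u ^ k)⁻¹), Y.mul_mem ha ?_, k + l, by rw [zpow_add]; group⟩
    exact (mem_normalizer_iff.1 (zpow_mem hu k) b).1 hb
  inv_mem' := by
    rintro _ ⟨a, ha, k, rfl⟩
    refine ⟨(u ^ k)⁻¹ * a⁻¹ * u ^ k, ?_, -k, by group⟩
    have h1 := (mem_normalizer_iff.1 (inv_mem (zpow_mem hu k)) a⁻¹).1 (Y.inv_mem ha)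
    rwa [inv_inv] at h1

theorem le_joinU (Y : Subgroup H) {u : H} (hu : u ∈ normalizer (Y : Set H)) : Y ≤ joinU Y hu :=
  fun a ha => ⟨a, ha, 0, by simp⟩

theorem mem_joinU (Y : Subgroup H) {u : H} (hu : u ∈ normalizer (Y : Set H)) : u ∈ joinU Y hu :=
  ⟨1, Y.one_mem, 1, by simp⟩

theorem exists_odd_pow {e : H} [Finite H] (he : ∀ n, Odd (orderOf (e ^ n)) → e ^ n = 1) : ∃ k, e ^ 2 ^ k = 1 := by
  obtain ⟨k, m, hm, ho⟩ := Nat.exists_eq_pow_mul_and_not_dvd (orderOf_pos e).ne' 2 (by norm_num)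
  refine ⟨k, he _ ?_⟩
  rw [orderOf_pow_of_dvd (pow_ne_zero _ two_ne_zero) (by rw [ho]; exact Dvd.intro m rfl), ho,
    Nat.mul_div_cancel_left _ (pow_pos two_pos k)]
  rwa [← Nat.not_even_iff_odd, even_iff_two_dvd]

/-- **An element `u` with `u²` centralising the quasisimple subgroup `Y`, which inverts no element of odd order of `Y`, centralises `Y`.** -/
theorem commutes_of_no_inverted [Finite H] {Y : Subgroup H} (hY : IsQuasisimple Y) {u : H}
    (hu : u ∈ normalizer (Y : Set H)) (h4 : u ^ 4 = 1) (hz : ∀ a ∈ Y, (u * u) * a = a * (u * u))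
    (hno : ∀ e ∈ Y, Odd (orderOf e) → u * e * u⁻¹ = e⁻¹ → e = 1) : ∀ a ∈ Y, u * a = a * u := by
  have h2f : Fact (Nat.Prime 2) := ⟨Nat.prime_two⟩
  set X := joinU Y hu with hX
  let u' : X := ⟨u, mem_joinU Y hu⟩
  have hconj : ∀ a ∈ Y, u * a * u⁻¹ ∈ Y := fun a ha => (mem_normalizer_iff.1 hu a).1 ha
  have hu2 : IsPGroup 2 (zpowers u) := by
    refine IsPGroup.of_card_dvd_pow ?_ (n := 2)
    rw [Nat.card_zpowers]
    exact orderOf_dvd_of_pow_eq_one h4
  have hpair : ∀ a ∈ Y, IsPGroup 2 (closure ({u, a * u * a⁻¹} : Set H)) := by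
    intro a ha
    set e := u * a * u⁻¹ * a⁻¹ with he
    have heY : e ∈ Y := Y.mul_mem (hconj a ha) (Y.inv_mem ha)
    have hinv : u * e * u⁻¹ = e⁻¹ := conj_comm_inv (hz a ha)
    obtain ⟨k, hk⟩ := exists_odd_pow (e := e) fun n hn => hno _ (Y.pow_mem heY n) hn
      (by rw [← conj_pow, hinv, inv_pow])
    have he2 : IsPGroup 2 (zpowers e) := by
      refine IsPGroup.of_card_dvd_pow ?_ (n := k)
      rw [Nat.card_zpowers]
      exact orderOf_dvd_of_pow_eq_one hk
    have hun : zpowers u ≤ normalizer (zpowers e : Set H) := by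
      rw [zpowers_le, mem_normalizer_iff]
      intro g
      constructor
      · rintro ⟨n, rfl⟩
        show u * e ^ n * u⁻¹ ∈ zpowers e
        rw [← conj_zpow, hinv]
        exact zpow_mem (inv_mem (mem_zpowers e)) n
      · rintro ⟨n, hn⟩
        change e ^ n = u * g * u⁻¹ at hn
        have h1 : g = (u⁻¹ * e * u) ^ n := by
          have h3 := conj_zpow (a := u⁻¹) (b := e) (i := n)
          rw [inv_inv] at h3
          rw [h3, hn]; group
        have h2 : u⁻¹ * e * u = e⁻¹ := by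
          have : e = (u * e * u⁻¹)⁻¹ := by rw [hinv, inv_inv]
          nth_rewrite 1 [this]; group
        rw [h1, h2]
        exact zpow_mem (inv_mem (mem_zpowers e)) n
    have h5 := IsPGroup.to_sup_of_normal_left' he2 hu2 hun
    refine h5.to_le ?_
    rw [closure_le]
    rintro g (rfl | rfl)
    · exact mem_sup_right (mem_zpowers _)
    · have h6 : a * u * a⁻¹ = e⁻¹ * u := by rw [he]; group
      rw [h6]
      exact mul_mem (mem_sup_left (inv_mem (mem_zpowers _))) (mem_sup_right (mem_zpowers _))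
  have hmem : u' ∈ Cfsg.pCore 2 X := by
    apply Cfsg.Agent.Involutions.BaerSuzuki.mem_pCore_of_conj_pairs
    rintro ⟨g, a, ha, k, rfl⟩
    set C : Subgroup X := Subgroup.closure ({u', ⟨a * u ^ k, a, ha, k, rfl⟩ * u' * ⟨a * u ^ k, a, ha, k, rfl⟩⁻¹} : Set X)
      with hC
    have h1 : IsPGroup 2 (C.map X.subtype) := by
      rw [hC, MonoidHom.map_closure, Set.image_pair]
      have h2 : X.subtype (⟨a * u ^ k, a, ha, k, rfl⟩ * u' * ⟨a * u ^ k, a, ha, k, rfl⟩⁻¹) = a * u * a⁻¹ := by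
        show (a * u ^ k) * u * (a * u ^ k)⁻¹ = _
        group
      rw [h2]
      exact hpair a ha
    exact h1.of_injective (C.equivMapOfInjective X.subtype X.subtype_injective).toMonoidHom
      (C.equivMapOfInjective X.subtype X.subtype_injective).injective
  -- the normal 2-subgroup of `Y`
  let M : Subgroup Y := ((Cfsg.pCore 2 X).comap (inclusion (le_joinU Y hu)))
  have hcn : (Cfsg.pCore 2 X).Normal := Cfsg.Agent.Lib.Cores.pCore_normal 2
  have hMn : M.Normal := hcn.comap _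
  have hM2 : IsPGroup 2 M := (Cfsg.Agent.Lib.Cores.pCore_isPGroup 2).comap_of_injective _
    (inclusion_injective _)
  have hMc : M ≤ center Y := by
    rcases Components.quasisimple_normal hY M hMn with h | h
    · exfalso
      apply Components.quasisimple_not_isSolvable hY
      rw [h] at hM2
      have h1 : IsPGroup 2 Y := hM2.of_surjective (topEquiv : (⊤ : Subgroup Y) ≃* Y).toMonoidHom
        (topEquiv : (⊤ : Subgroup Y) ≃* Y).surjective
      have := h1.isNilpotent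
      infer_instance
    · exact h
  apply commutes_of_center hY hu
  intro a
  apply hMc
  show (⟨((cjA Y hu a * a⁻¹ : Y) : H), _⟩ : X) ∈ Cfsg.pCore 2 X
  have h1 : (⟨((cjA Y hu a * a⁻¹ : Y) : H), le_joinU Y hu (cjA Y hu a * a⁻¹ : Y).2⟩ : X)
      = u' * ((⟨a, le_joinU Y hu a.2⟩ : X) * u'⁻¹ * (⟨a, le_joinU Y hu a.2⟩ : X)⁻¹) := by
    apply Subtype.ext
    show u * a * u⁻¹ * (a : H)⁻¹ = u * (a * u⁻¹ * (a : H)⁻¹)
    group
  rw [h1]
  exact mul_mem hmem (hcn.conj_mem _ (inv_mem hmem) _)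

end Cfsg.Agent.H558.Deg4Data
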