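import Cfsg.Agent.H558.Deg4Data.CompInv

/-!
# An element of order four centralising the `r`-subgroups it normalises normalises every component
-/

namespace Cfsg.Agent.H558.Deg4Data

open Subgroup Cfsg Cfsg.Agent.H167.OP Cfsg.Agent.ThreePrime.AutQuot Cfsg.Agent.SignalizersComponents

variable {H : Type*} [Group H]

/-- The closure of pairwise commuting `r`-elements is an `r`-group. -/
theorem isPGroup_closure_comm {r : ℕ} {s : Set H} (hc : ∀ a ∈ s, ∀ b ∈ s, a * b = b * a)
    (hs : ∀ a ∈ s, ∃ k, a ^ r ^ k = 1) : IsPGroup r (Subgroup.closure s) := by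
  have hcc := comm_closure hc
  rintro ⟨a, ha⟩
  have key : ∃ k, a ^ r ^ k = 1 := by
    induction ha using Subgroup.closure_induction with
    | mem x hx => exact hs x hx
    | one => exact ⟨0, one_pow _⟩
    | mul x y hx hy ihx ihy =>
      obtain ⟨k, hk⟩ := ihx
      obtain ⟨l, hl⟩ := ihy
      refine ⟨k + l, ?_⟩
      rw [(show Commute x y from hcc x hx y hy).mul_pow, pow_add, pow_mul, hk, one_pow, one_mul, mul_comm (r ^ k),
        pow_mul, hl, one_pow]
    | inv x hx ih =>
      obtain ⟨k, hk⟩ := ih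
      exact ⟨k, by rw [inv_pow, hk, inv_one]⟩
  obtain ⟨k, hk⟩ := key
  exact ⟨k, Subtype.ext hk⟩

/-- If the conjugates of the `r`-element `w` under `u` commute, then `u` centralises `w`. -/
theorem comm_of_orbit {r : ℕ} {u w : H} (hu : CenR r u) (h4 : u ^ 4 = 1) {k : ℕ} (hk : w ^ r ^ k = 1)
    (hc : ∀ i j : ℕ, i < 4 → j < 4 → Commute (u ^ i * w * (u ^ i)⁻¹) (u ^ j * w * (u ^ j)⁻¹)) : u * w = w * u := by
  let s : Set H := {a | ∃ i < 4, a = u ^ i * w * (u ^ i)⁻¹}
  have hcs : ∀ a ∈ s, ∀ b ∈ s, a * b = b * a := by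
    rintro _ ⟨i, hi, rfl⟩ _ ⟨j, hj, rfl⟩
    exact hc i j hi hj
  have hr : IsPGroup r (Subgroup.closure s) := by
    refine isPGroup_closure_comm hcs ?_
    rintro _ ⟨i, -, rfl⟩
    exact ⟨k, by rw [conj_pow, hk, mul_one, mul_inv_cancel]⟩
  have hn : Nrm u (Subgroup.closure s) := by
    refine nrm_closure ?_
    rintro _ ⟨i, hi, rfl⟩
    have h1 : u * (u ^ i * w * (u ^ i)⁻¹) * u⁻¹ = u ^ (i + 1) * w * (u ^ (i + 1))⁻¹ := by
      rw [pow_succ']; group
    rw [h1]
    apply Subgroup.subset_closure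
    by_cases h : i + 1 < 4
    · exact ⟨i + 1, h, rfl⟩
    · have h2 : i + 1 = 4 := by omega
      rw [h2, h4]
      exact ⟨0, by norm_num, by simp⟩
  exact hu _ hr hn w (Subgroup.subset_closure ⟨0, by norm_num, by simp⟩)

/-- Component: an `r`-element, `r` odd, outside the centre. -/
theorem exists_outside [Finite H] {Y : Subgroup H} (hY : IsQuasisimple Y) :
    ∃ r : ℕ, r.Prime ∧ r ≠ 2 ∧ r ∣ Nat.card Y ∧ ∃ w ∈ Y, (∃ k, w ^ r ^ k = 1) ∧ ∃ b ∈ Y, w * b ≠ b * w := by
  have hs := hY.2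
  obtain ⟨r, hr, hr2, hrd⟩ : ∃ r : ℕ, r.Prime ∧ r ≠ 2 ∧ r ∣ Nat.card (Y ⧸ center Y) := by
    by_contra hcon
    push Not at hcon
    apply Components.quasisimple_not_isSolvable hY
    have h2f : Fact (Nat.Prime 2) := ⟨Nat.prime_two⟩
    have h2 : IsPGroup 2 (Y ⧸ center Y) := by
      obtain ⟨n, m, hm, hn⟩ := Nat.exists_eq_pow_mul_and_not_dvd (Nat.card_pos (α := Y ⧸ center Y)).ne' 2 (by norm_num)
      have hm1 : m = 1 := by
        by_contra h1
        obtain ⟨r, hr, hrm⟩ := Nat.exists_prime_and_dvd h1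
        refine hcon r hr ?_ (hn ▸ hrm.mul_left _)
        rintro rfl
        exact hm hrm
      rw [hm1, mul_one] at hn
      exact IsPGroup.of_card hn
    have h3 := h2.isNilpotent
    have h4 : Group.IsSolvable (Y ⧸ center Y) := inferInstance
    have h5 : Group.IsSolvable (center Y) :=
      Group.isSolvable_of_comm fun a b => Subtype.ext (mem_center_iff.1 b.2 a)
    exact Group.isSolvable_of_ker_le_range (center Y).subtype (QuotientGroup.mk' (center Y))
      (by rw [QuotientGroup.ker_mk', range_subtype])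
  have := Fact.mk hr
  obtain ⟨v, hv⟩ := exists_prime_orderOf_dvd_card' r hrd
  obtain ⟨w, hw, s, hws⟩ := Cfsg.Agent.H478.CycConjQuot.exists_lift (QuotientGroup.mk' (center Y)) hr
    (QuotientGroup.mk'_surjective _) (h := v) (k := 1) (by rw [pow_one]; exact hv)
  have hwc : w ∉ center Y := by
    intro h
    have h1 : v = 1 := by rw [← hw]; exact (QuotientGroup.eq_one_iff w).2 h
    rw [h1, orderOf_one] at hv
    exact hr.one_lt.ne hv
  rw [mem_center_iff] at hwc
  push Not at hwc
  obtain ⟨b, hb⟩ := hwc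
  refine ⟨r, hr, hr2, hrd.trans (card_quotient_dvd_card _), w, w.2, ⟨s, ?_⟩, b, b.2, fun h => hb (Subtype.ext h.symm)⟩
  have h1 : w ^ r ^ s = 1 := by rw [← hws]; exact pow_orderOf_eq_one w
  exact congrArg Subtype.val h1

/-- an element `≠ 1` of odd order inverted by `z` has a power of odd prime order inverted by `z` -/
theorem exists_prime_inverted [Finite H] {Y : Subgroup H} {e z : H} (he : e ∈ Y) (ho : Odd (orderOf e)) (h1 : e ≠ 1)
    (hz : z * e * z⁻¹ = e⁻¹) : ∃ r : ℕ, r.Prime ∧ r ≠ 2 ∧ r ∣ Nat.card Y ∧ ∃ w ∈ Y, orderOf w = r ∧ z * w * z⁻¹ = w⁻¹ := by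
  obtain ⟨r, hr, hrd⟩ := Nat.exists_prime_and_dvd (fun h => h1 (orderOf_eq_one_iff.1 h) : orderOf e ≠ 1)
  have hr2 : r ≠ 2 := by
    rintro rfl
    exact (Nat.not_even_iff_odd.2 ho) (even_iff_two_dvd.2 hrd)
  refine ⟨r, hr, hr2, ?_, e ^ (orderOf e / r), Y.pow_mem he _, ?_, by rw [← conj_pow, hz, inv_pow]⟩
  · refine hrd.trans ?_
    have := orderOf_dvd_natCard (⟨e, he⟩ : Y)
    rwa [orderOf_mk] at this
  · rw [orderOf_pow_of_dvd (Nat.div_pos (Nat.le_of_dvd (orderOf_pos e) hrd) hr.pos).ne' (Nat.div_dvd_of_dvd hrd),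
      Nat.div_div_self hrd (orderOf_pos e).ne']

theorem not_inverted {r : ℕ} (hr : r.Prime) (hr2 : r ≠ 2) {w : H} (hw : orderOf w = r) (h : w = w⁻¹) : False := by
  have h1 : w = 1 := eq_one_of_sq_rpow (k := 1) hr hr2 (by rw [pow_one, ← hw]; exact pow_orderOf_eq_one w) h
  rw [h1, orderOf_one] at hw
  exact hr.one_lt.ne hw

/-- **Lemma B**: `u` normalises `Y`, `u²` centralises `Y`. -/
theorem commutes_of_sq [Finite H] {Y : Subgroup H} (hY : IsQuasisimple Y) {u : H} (hu : u ∈ normalizer (Y : Set H))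
    (h4 : u ^ 4 = 1) (hcen : ∀ r : ℕ, r.Prime → r ≠ 2 → r ∣ Nat.card H → CenR r u)
    (hz : ∀ a ∈ Y, (u * u) * a = a * (u * u)) : ∀ a ∈ Y, u * a = a * u := by
  refine commutes_of_no_inverted hY hu h4 hz fun e he ho hinv => ?_
  by_contra h1
  obtain ⟨r, hr, hr2, hrd, w, hw, hwo, hwi⟩ := exists_prime_inverted he ho h1 hinv
  have h2 : Nrm u (zpowers w) := by
    rintro _ ⟨n, rfl⟩
    show u * w ^ n * u⁻¹ ∈ zpowers w
    rw [← conj_zpow, hwi]
    exact zpow_mem (inv_mem (mem_zpowers w)) n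
  have h3 : IsPGroup r (zpowers w) := IsPGroup.of_card (n := 1) (by rw [Nat.card_zpowers, hwo, pow_one])
  have h5 := hcen r hr hr2 (hrd.trans (card_subgroup_dvd_card Y)) _ h3 h2 w (mem_zpowers w)
  refine not_inverted hr hr2 hwo ?_
  rw [← hwi, h5, mul_inv_cancel_right]

/-- **Lemma A**: `u` normalises the components. -/
theorem mem_normalizer_component [Finite H] {Y : Subgroup H} (hY : IsComponent Y) {u : H}
    (h4 : u ^ 4 = 1) (hcen : ∀ r : ℕ, r.Prime → r ≠ 2 → r ∣ Nat.card H → CenR r u) : u ∈ normalizer (Y : Set H) := by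
  -- the conjugates
  let C : ℕ → Subgroup H := fun i => Y.map (MulAut.conj (u ^ i)).toMonoidHom
  have hC : ∀ i, IsComponent (C i) := fun i => Components.isComponent_conj (u ^ i) hY
  have hCmem : ∀ i, ∀ a ∈ Y, u ^ i * a * (u ^ i)⁻¹ ∈ C i := fun i a ha => ⟨a, ha, rfl⟩
  have hcomm : ∀ i j, C i ≠ C j → ∀ a ∈ Y, ∀ b ∈ Y, Commute (u ^ i * a * (u ^ i)⁻¹) (u ^ j * b * (u ^ j)⁻¹) := by
    intro i j hij a ha b hb
    have h1 := Components.component_le_centralizer_of_ne (hC i) (hC j) hij (hCmem i a ha)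
    exact (mem_centralizer_iff.1 h1 _ (hCmem j b hb)).symm
  have hC0 : C 0 = Y := by
    show Y.map (MulAut.conj (u ^ 0)).toMonoidHom = Y
    rw [pow_zero, map_one]
    ext a; constructor
    · rintro ⟨b, hb, rfl⟩; exact hb
    · intro ha; exact ⟨a, ha, rfl⟩
  have hCadd : ∀ i j, C i = C j → C (i + 1) = C (j + 1) := by
    intro i j hij
    have h1 : ∀ i, C (i + 1) = (C i).map (MulAut.conj u).toMonoidHom := by
      intro i
      show Y.map (MulAut.conj (u ^ (i + 1))).toMonoidHom = (Y.map (MulAut.conj (u ^ i)).toMonoidHom).map _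
      rw [map_map]
      congr 1
      ext a
      show u ^ (i + 1) * a * (u ^ (i + 1))⁻¹ = u * (u ^ i * a * (u ^ i)⁻¹) * u⁻¹
      rw [pow_succ']; group
    rw [h1, h1, hij]
  have hC4 : C 4 = C 0 := by
    show Y.map (MulAut.conj (u ^ 4)).toMonoidHom = Y.map (MulAut.conj (u ^ 0)).toMonoidHom
    rw [h4, pow_zero]
  by_contra hun
  have h01 : C 1 ≠ C 0 := by
    intro h
    apply hun
    rw [hC0] at h
    have h1 : ∀ a ∈ Y, u * a * u⁻¹ ∈ Y := by
      intro a ha
      have := hCmem 1 a ha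
      rw [h, pow_one] at this
      exact this
    rw [mem_normalizer_iff]
    intro a
    refine ⟨h1 a, fun ha => ?_⟩
    rw [← h] at ha
    obtain ⟨b, hb, hba⟩ := ha
    have h2 : u ^ 1 * b * (u ^ 1)⁻¹ = u * a * u⁻¹ := hba
    rw [pow_one] at h2
    have h3 : b = a := by
      have := mul_right_cancel h2
      exact mul_left_cancel this
    rwa [← h3]
  -- an element of `Y ∩ C 1` centralises `Y`
  have hcentral : ∀ w ∈ Y, u * w = w * u → ∀ b ∈ Y, w * b = b * w := by
    intro w hw huw b hb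
    have h1 := hcomm 1 0 h01 w hw b hb
    rw [pow_one, pow_zero, inv_one, one_mul, mul_one, huw, mul_inv_cancel_right] at h1
    exact h1
  by_cases h02 : C 2 = C 0
  · -- `z = u²` normalises `Y`
    have hz : u * u ∈ normalizer (Y : Set H) := by
      have h1 : ∀ a ∈ Y, (u * u) * a * (u * u)⁻¹ ∈ Y := by
        intro a ha
        have := hCmem 2 a ha
        rw [h02, hC0, pow_two] at this
        exact this
      rw [mem_normalizer_iff]
      intro a
      refine ⟨h1 a, fun ha => ?_⟩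
      have h2 := h1 _ ha
      have h3 : (u * u) * ((u * u) * a * (u * u)⁻¹) * (u * u)⁻¹ = u ^ 4 * a * (u ^ 4)⁻¹ := by
        simp only [pow_succ, pow_zero, one_mul, mul_assoc, mul_inv_rev]
      rw [h3, h4, inv_one, mul_one, one_mul] at h2
      exact h2
    have hzz : (u * u) * (u * u) = 1 := by
      rw [← h4]; simp only [pow_succ, pow_zero, one_mul, mul_assoc]
    have h13 : C 3 = C 1 := hCadd 2 0 h02
    by_cases hzc : ∀ a ∈ Y, (u * u) * a = a * (u * u)
    · obtain ⟨r, hr, hr2, hrd, w, hw, ⟨k, hk⟩, b, hb, hwb⟩ := exists_outside hY.2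
      apply hwb
      refine hcentral w hw (comm_of_orbit (hcen r hr hr2 (hrd.trans (card_subgroup_dvd_card Y))) h4 hk ?_) b hb
      -- `w₂ = w`
      have hw2 : ∀ i, u ^ (i + 2) * w * (u ^ (i + 2))⁻¹ = u ^ i * w * (u ^ i)⁻¹ := by
        intro i
        have h1 : u ^ (i + 2) * w * (u ^ (i + 2))⁻¹ = u ^ i * ((u * u) * w * (u * u)⁻¹) * (u ^ i)⁻¹ := by
          rw [pow_add, pow_two]; group
        rw [h1, hzc w hw, mul_inv_cancel_right]
      have key : ∀ i j : ℕ, i < 2 → j < 2 → Commute (u ^ i * w * (u ^ i)⁻¹) (u ^ j * w * (u ^ j)⁻¹) := by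
        intro i j hi hj
        by_cases hij : i = j
        · subst hij; exact Commute.refl _
        · refine hcomm i j ?_ w hw w hw
          interval_cases i <;> interval_cases j <;> first | exact absurd rfl hij | exact h01 | exact h01.symm
      intro i j hi hj
      have hred : ∀ i < 4, ∃ i' < 2, u ^ i * w * (u ^ i)⁻¹ = u ^ i' * w * (u ^ i')⁻¹ := by
        intro i hi
        by_cases h : i < 2
        · exact ⟨i, h, rfl⟩
        · obtain ⟨l, rfl⟩ : ∃ l, i = l + 2 := ⟨i - 2, by omega⟩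
          exact ⟨l, by omega, hw2 l⟩
      obtain ⟨i', hi', e1⟩ := hred i hi
      obtain ⟨j', hj', e2⟩ := hred j hj
      rw [e1, e2]
      exact key i' j' hi' hj'
    · -- `z` inverts an element
      have hex : ∃ e ∈ Y, Odd (orderOf e) ∧ (u * u) * e * (u * u)⁻¹ = e⁻¹ ∧ e ≠ 1 := by
        by_contra hcon
        push Not at hcon
        apply hzc
        refine commutes_of_no_inverted hY.2 hz ?_ (fun a _ => by rw [hzz, one_mul, mul_one]) fun e he ho hi =>
          hcon e he ho hi
        have : (u * u) ^ 4 = ((u * u) * (u * u)) ^ 2 := by simp only [pow_succ, pow_zero, one_mul, mul_assoc]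
        rw [this, hzz, one_pow]
      obtain ⟨e, he, ho, hi, hne⟩ := hex
      obtain ⟨r, hr, hr2, hrd, w, hw, hwo, hwi⟩ := exists_prime_inverted he ho hne hi
      have h5 : u * w = w * u := by
        refine comm_of_orbit (hcen r hr hr2 (hrd.trans (card_subgroup_dvd_card Y))) h4 (k := 1)
          (by rw [pow_one, ← hwo]; exact pow_orderOf_eq_one w) ?_
        have hw2 : ∀ i, u ^ (i + 2) * w * (u ^ (i + 2))⁻¹ = (u ^ i * w * (u ^ i)⁻¹)⁻¹ := by
          intro i
          have h1 : u ^ (i + 2) * w * (u ^ (i + 2))⁻¹ = u ^ i * ((u * u) * w * (u * u)⁻¹) * (u ^ i)⁻¹ := by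
            rw [pow_add, pow_two]; group
          rw [h1, hwi]; group
        have key : ∀ i j : ℕ, i < 2 → j < 2 → Commute (u ^ i * w * (u ^ i)⁻¹) (u ^ j * w * (u ^ j)⁻¹) := by
          intro i j hi hj
          by_cases hij : i = j
          · subst hij; exact Commute.refl _
          · refine hcomm i j ?_ w hw w hw
            interval_cases i <;> interval_cases j <;> first | exact absurd rfl hij | exact h01 | exact h01.symm
        intro i j hi hj
        have hred : ∀ i < 4, ∃ i' < 2, u ^ i * w * (u ^ i)⁻¹ = u ^ i' * w * (u ^ i')⁻¹ ∨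
            u ^ i * w * (u ^ i)⁻¹ = (u ^ i' * w * (u ^ i')⁻¹)⁻¹ := by
          intro i hi
          by_cases h : i < 2
          · exact ⟨i, h, Or.inl rfl⟩
          · obtain ⟨l, rfl⟩ : ∃ l, i = l + 2 := ⟨i - 2, by omega⟩
            exact ⟨l, by omega, Or.inr (hw2 l)⟩
        obtain ⟨i', hi', e1⟩ := hred i hi
        obtain ⟨j', hj', e2⟩ := hred j hj
        have hk := key i' j' hi' hj'
        rcases e1 with e1 | e1 <;> rcases e2 with e2 | e2 <;> rw [e1, e2]
        · exact hk
        · exact hk.inv_right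
        · exact hk.inv_left
        · exact hk.inv_inv
      refine not_inverted hr hr2 hwo ?_
      have h6 : (u * u) * w = w * (u * u) := by rw [mul_assoc, h5, ← mul_assoc, h5, mul_assoc]
      rw [← hwi, h6, mul_inv_cancel_right]
  · -- four different conjugates
    have hne : ∀ i j : ℕ, i < j → j < 4 → C i ≠ C j := by
      have h12 : C 1 ≠ C 2 := by
        intro h
        have h1 := hCadd 1 2 h
        have h2 := hCadd 2 3 h1
        -- C 2 = C 3 = C 4 = C 0
        exact h02 (h1.trans (h2.trans hC4))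
      have h13 : C 1 ≠ C 3 := by
        intro h
        have h1 := hCadd 1 3 h
        exact h02 (h1.trans hC4)
      have h03 : C 0 ≠ C 3 := by
        intro h
        have h1 := hCadd 0 3 h
        exact h01 (h1.trans hC4)
      have h23 : C 2 ≠ C 3 := by
        intro h
        exact h02 (h.trans ((hCadd 2 3 h).trans hC4))
      intro i j hij hj
      interval_cases j <;> interval_cases i <;>
        first | exact h01.symm | exact fun h => h02 h.symm | exact h12 | exact h03 | exact h13 | exact h23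
    obtain ⟨r, hr, hr2, hrd, w, hw, ⟨k, hk⟩, b, hb, hwb⟩ := exists_outside hY.2
    apply hwb
    refine hcentral w hw (comm_of_orbit (hcen r hr hr2 (hrd.trans (card_subgroup_dvd_card Y))) h4 hk ?_) b hb
    intro i j hi hj
    rcases lt_trichotomy i j with h | h | h
    · exact hcomm i j (hne i j h hj) w hw w hw
    · subst h; exact Commute.refl _
    · exact (hcomm j i (hne j i h hi) w hw w hw).symm

end Cfsg.Agent.H558.Deg4Data
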