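import Cfsg.Agent.H558.Deg4Data.CompNorm
import Cfsg.Agent.OddCyclic.T1SzFacts
import Cfsg.Agent.ThreePrime.Main

/-!
# Quaternion pairs act trivially on components of order prime to three; the constrained conclusion
-/

namespace Cfsg.Agent.H558.Deg4Data

open Subgroup Cfsg Cfsg.Agent.H167.OP Cfsg.Agent.ThreePrime.AutQuot Cfsg.Agent.SignalizersComponents

/-- In the Sylow 2-subgroup of a Suzuki group elements with the same square are congruent modulo the centre. -/
theorem mul_inv_comm_of_sq {J : Type*} [Group J] [Finite J] {T : Subgroup J} (h : Cfsg.Agent.OddCyclic.T1SzFacts.SzMore J T)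
    {s t : J} (hs : s ∈ T) (ht : t ∈ T) (hst : s * s = t * t) : ∀ y ∈ T, (s⁻¹ * t) * y = y * (s⁻¹ * t) := by
  classical
  set Z : Subgroup J := T ⊓ Subgroup.centralizer (T : Set J) with hZ
  have hZT : Z ≤ T := inf_le_left
  have hZc : ∀ z ∈ Z, ∀ y ∈ T, z * y = y * z := fun z hz y hy => (mem_centralizer_iff.1 hz.2 y hy).symm
  have hZs : ∀ z ∈ Z, z * z = 1 := fun z hz => (h.sq_iff z (hZT hz)).2 (hZc z hz)
  have hsqZ : ∀ x ∈ T, x * x ∈ Z := by
    intro x hx
    refine ⟨T.mul_mem hx hx, mem_centralizer_iff.2 fun y hy => ?_⟩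
    exact ((h.sq_iff _ (T.mul_mem hx hx)).1 (h.sq_sq x hx) y hy).symm
  -- square roots
  have hroot : ∀ z : Z, ∃ x ∈ T, x * x = (z : J) := fun z => h.exists_sq z (hZT z.2) (hZs z z.2)
  choose rt hrtT hrt using hroot
  let F : Z × Z → T := fun p => ⟨rt p.1 * p.2, T.mul_mem (hrtT _) (hZT p.2.2)⟩
  have hFsq : ∀ p : Z × Z, ((F p : T) : J) * (F p : T) = p.1 := by
    intro p
    have h1 : ((p.2 : Z) : J) * rt p.1 = rt p.1 * (p.2 : Z) := hZc _ p.2.2 _ (hrtT _)
    show rt p.1 * (p.2 : J) * (rt p.1 * (p.2 : J)) = p.1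
    calc rt p.1 * (p.2 : J) * (rt p.1 * (p.2 : J)) = rt p.1 * ((p.2 : J) * rt p.1) * (p.2 : J) := by group
      _ = rt p.1 * (rt p.1 * (p.2 : J)) * (p.2 : J) := by rw [h1]
      _ = (rt p.1 * rt p.1) * ((p.2 : J) * (p.2 : J)) := by group
      _ = p.1 := by rw [hrt, hZs _ p.2.2, mul_one]
  have hFinj : Function.Injective F := by
    intro p p' hpp
    have h1 : p.1 = p'.1 := Subtype.ext (by rw [← hFsq p, ← hFsq p', hpp])
    have h2 : rt p.1 * (p.2 : J) = rt p'.1 * (p'.2 : J) := congrArg Subtype.val hpp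
    rw [h1] at h2
    exact Prod.ext h1 (Subtype.ext (mul_left_cancel h2))
  have hFsurj : Function.Surjective F := by
    have hcard : Nat.card (Z × Z) = Nat.card T := by rw [Nat.card_prod, h.card_eq, pow_two]
    exact ((Nat.bijective_iff_injective_and_card F).2 ⟨hFinj, hcard⟩).2
  obtain ⟨p, hp⟩ := hFsurj ⟨s, hs⟩
  obtain ⟨p', hp'⟩ := hFsurj ⟨t, ht⟩
  have h1 : p.1 = p'.1 := Subtype.ext (by
    rw [← hFsq p, ← hFsq p', hp, hp']; exact hst)
  have h2 : rt p.1 * (p.2 : J) = s := congrArg Subtype.val hp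
  have h3 : rt p'.1 * (p'.2 : J) = t := congrArg Subtype.val hp'
  have h4 : s⁻¹ * t = (p.2 : J)⁻¹ * (p'.2 : J) := by
    rw [← h2, ← h3, h1]; group
  rw [h4]
  exact hZc _ (Z.mul_mem (Z.inv_mem p.2.2) p'.2.2)

variable {H : Type*} [Group H] [Finite H]

/-- the automorphism of `Y/Z(Y)` -/
noncomputable def aq (Y : Subgroup H) {u : H} (hu : u ∈ normalizer (Y : Set H)) : MulAut (Y ⧸ center Y) :=
  autQuot Y (cjA Y hu)

theorem aq_mul (Y : Subgroup H) {u v : H} (hu : u ∈ normalizer (Y : Set H)) (hv : v ∈ normalizer (Y : Set H)) :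
    aq Y (mul_mem hu hv) = aq Y hu * aq Y hv := by
  unfold aq cjA
  rw [← map_mul, ← map_mul]
  rfl

theorem aq_inv (Y : Subgroup H) {u : H} (hu : u ∈ normalizer (Y : Set H)) : aq Y (inv_mem hu) = (aq Y hu)⁻¹ := by
  unfold aq cjA
  rw [← map_inv, ← map_inv]
  rfl

theorem aq_one (Y : Subgroup H) : aq Y (one_mem (normalizer (Y : Set H))) = 1 := by
  unfold aq cjA
  have : (⟨1, one_mem _⟩ : normalizer (Y : Set H)) = 1 := rfl
  rw [this, map_one, map_one]

theorem aq_congr (Y : Subgroup H) {u v : H} (hu : u ∈ normalizer (Y : Set H)) (hv : v ∈ normalizer (Y : Set H))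
    (h : u = v) : aq Y hu = aq Y hv := by subst h; rfl

theorem isoSuzuki_quot (h3 : ¬ 3 ∣ Nat.card H) {Y : Subgroup H} (hY : IsQuasisimple Y) :
    Cfsg.Lie.IsoSuzuki (Y ⧸ center Y) := by
  have hs : IsSimpleGroup (Y ⧸ center Y) := hY.2
  have hp := hY.1
  refine Cfsg.Agent.ThreePrime.Main.isoSuzuki ?_ ?_
  · by_contra hcon
    push Not at hcon
    have hperf : Group.IsPerfect (Y ⧸ center Y) := inferInstance
    have hab : IsMulCommutative (Y ⧸ center Y) := ⟨⟨hcon⟩⟩
    exact Group.IsPerfect.not_isMulCommutative _ hab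
  · intro h
    exact h3 ((h.trans (card_quotient_dvd_card _)).trans (card_subgroup_dvd_card Y))

/-- **Lemma C**: for a quaternion pair `x, y` normalising the quasisimple group `Y` of order prime to `3`, `x²` centralises `Y`. -/
theorem sq_commutes (h3 : ¬ 3 ∣ Nat.card H) {Y : Subgroup H} (hY : IsQuasisimple Y) {x y : H}
    (hx : x ∈ normalizer (Y : Set H)) (hy : y ∈ normalizer (Y : Set H)) (h4 : x ^ 4 = 1) (hsq : y * y = x * x)
    (hinv : y * x * y⁻¹ = x⁻¹) : ∀ a ∈ Y, (x * x) * a = a * (x * x) := by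
  have h2f : Fact (Nat.Prime 2) := ⟨Nat.prime_two⟩
  have hs : IsSimpleGroup (Y ⧸ center Y) := hY.2
  have hSz := isoSuzuki_quot h3 hY
  have hctr : center (Y ⧸ center Y) = ⊥ := by
    rcases (inferInstance : (center (Y ⧸ center Y)).Normal).eq_bot_or_eq_top with h | h
    · exact h
    · exfalso
      have hp := hY.1
      have hperf : Group.IsPerfect (Y ⧸ center Y) := inferInstance
      have hab : IsMulCommutative (Y ⧸ center Y) := ⟨⟨fun a b => by
        have : b ∈ center (Y ⧸ center Y) := by rw [h]; exact mem_top _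
        exact mem_center_iff.1 this a⟩⟩
      exact Group.IsPerfect.not_isMulCommutative _ hab
  have hconjinj : ∀ a b : Y ⧸ center Y, MulAut.conj a = MulAut.conj b → a = b := by
    intro a b hab
    have h1 : b⁻¹ * a ∈ center (Y ⧸ center Y) := by
      rw [mem_center_iff]
      intro g
      have h2 : MulAut.conj a g = MulAut.conj b g := by rw [hab]
      rw [MulAut.conj_apply, MulAut.conj_apply] at h2
      have h3 : a * g = b * g * b⁻¹ * a := by rw [← h2]; group
      have h5 : b⁻¹ * a * g = g * (b⁻¹ * a) := by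
        calc b⁻¹ * a * g = b⁻¹ * (a * g) := by group
          _ = b⁻¹ * (b * g * b⁻¹ * a) := by rw [h3]
          _ = g * (b⁻¹ * a) := by group
      exact h5.symm
    rw [hctr, mem_bot] at h1
    exact (inv_mul_eq_one.1 h1).symm
  obtain ⟨T0⟩ : Nonempty (Sylow 2 (Y ⧸ center Y)) := inferInstance
  obtain ⟨D, hD⟩ := Cfsg.Agent.ThreePrime.SzRel.exists_szData hSz T0
  have hy4 : y ^ 4 = 1 := by
    have h1 : y ^ 4 = (y * y) * (y * y) := by simp only [pow_succ, pow_zero, one_mul, mul_assoc]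
    rw [h1, hsq, ← h4]
    simp only [pow_succ, pow_zero, one_mul, mul_assoc]
  have pow4 : ∀ {u : H} (hu : u ∈ normalizer (Y : Set H)), u ^ 4 = 1 → (aq Y hu) ^ 2 ^ 2 = 1 := by
    intro u hu hu4
    have h1 : (aq Y hu) ^ 2 ^ 2 = aq Y hu * aq Y hu * (aq Y hu * aq Y hu) := by
      rw [show (2 : ℕ) ^ 2 = 4 from rfl]; simp only [pow_succ, pow_zero, one_mul, mul_assoc]
    rw [h1, ← aq_mul, ← aq_mul, ← aq_one Y]
    apply aq_congr
    rw [← hu4]; simp only [pow_succ, pow_zero, one_mul, mul_assoc]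
  obtain ⟨s, hs'⟩ := hD.inner (aq Y hx) ⟨2, pow4 hx h4⟩
  obtain ⟨t, ht'⟩ := hD.inner (aq Y hy) ⟨2, pow4 hy hy4⟩
  have hxx : aq Y (mul_mem hx hx) = MulAut.conj (s * s) := by rw [aq_mul Y hx hx, hs', map_mul]
  have hyy : aq Y (mul_mem hy hy) = MulAut.conj (t * t) := by rw [aq_mul Y hy hy, ht', map_mul]
  have hst : s * s = t * t := by
    apply hconjinj
    rw [← hxx, ← hyy]
    exact aq_congr Y _ _ hsq.symm
  have htst : t * s * t⁻¹ = s⁻¹ := by
    apply hconjinj
    rw [map_mul, map_mul, map_inv, map_inv, ← hs', ← ht', ← aq_inv, ← aq_inv, ← aq_mul, ← aq_mul]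
    exact aq_congr Y _ _ hinv
  have hs4 : s ^ 4 = 1 := by
    apply hconjinj
    have h1 : s ^ 4 = (s * s) * (s * s) := by simp only [pow_succ, pow_zero, one_mul, mul_assoc]
    rw [h1, map_mul, ← hxx, ← aq_mul, map_one, ← aq_one Y]
    apply aq_congr
    rw [← h4]; simp only [pow_succ, pow_zero, one_mul, mul_assoc]
  have hp := isPGroup_pair hs4 hst.symm htst
  obtain ⟨T, hT⟩ := hp.exists_le_sylow
  have hsT : s ∈ (T : Subgroup (Y ⧸ center Y)) := hT (Subgroup.subset_closure (by simp))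
  have htT : t ∈ (T : Subgroup (Y ⧸ center Y)) := hT (Subgroup.subset_closure (by simp))
  have hmore := Cfsg.Agent.OddCyclic.T1SzFacts.szMore hSz T
  have hc := mul_inv_comm_of_sq hmore hsT htT hst s hsT
  -- `s` and `t` commute
  have h5 : t * s = s * t := by
    have : s⁻¹ * t * s = s * (s⁻¹ * t) := hc
    have h6 : t * s = s * (s⁻¹ * t * s) := by group
    rw [h6, this]; group
  have h6 : s = s⁻¹ := by rw [← htst, h5, mul_inv_cancel_right]
  have h7 : s * s = 1 := by nth_rewrite 2 [h6]; exact mul_inv_cancel s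
  rw [h7, map_one] at hxx
  have h8 := eq_one_of_autQuot_eq_one hY.1 hxx
  intro a ha
  have h9 : ((cjA Y (mul_mem hx hx) ⟨a, ha⟩ : Y) : H) = a := by rw [h8]; rfl
  rw [coe_cjA] at h9
  change (x * x) * a * (x * x)⁻¹ = a at h9
  exact mul_inv_eq_iff_eq_mul.1 h9

/-- **The constrained conclusion.** -/
theorem centralizer_pCore_le_of_sData (h3 : ¬ 3 ∣ Nat.card H) {P : ℕ → Prop} {m : ℕ} {x y : Fin m → H} (h : SData P x y)
    (hP : ∀ r : ℕ, r.Prime → r ≠ 2 → r ∣ Nat.card H → P r) :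
    centralizer (Cfsg.pCore 2 H : Set H) ≤ Cfsg.pCore 2 H := by
  have hF : Fact (Nat.Prime 2) := ⟨Nat.prime_two⟩
  have hy4 : ∀ i, y i ^ 4 = 1 := by
    intro i
    have h1 : y i ^ 4 = (y i * y i) * (y i * y i) := by simp only [pow_succ, pow_zero, one_mul, mul_assoc]
    rw [h1, h.sq, ← h.four i]
    simp only [pow_succ, pow_zero, one_mul, mul_assoc]
  -- no normal `r`-subgroup
  have hO : pPrimeCore 2 H = ⊥ := by
    by_contra hO
    have hcop := Lib.Cores.pPrimeCore_coprime (G := H) 2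
    have hnt : Nontrivial ↥(pPrimeCore 2 H) := by
      rw [← not_subsingleton_iff_nontrivial]
      intro h
      exact hO (Subgroup.eq_bot_of_subsingleton _)
    have hsolN : Group.IsSolvable ↥(pPrimeCore 2 H) := by
      apply Cfsg.Agent.S0205.result
      exact (Nat.coprime_comm.mp hcop).odd_of_left
    obtain ⟨t, ht, N, hNc, -, hNp, hN'⟩ :=
      Lib.SolvableMinNormal.exists_characteristic_pgroup (G := ↥(pPrimeCore 2 H))
    have hft : Fact t.Prime := ⟨ht⟩
    have hMn : (N.map (pPrimeCore 2 H).subtype).Normal := by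
      have := hNc
      have h3 : (pPrimeCore 2 H).Normal := Lib.Cores.pPrimeCore_normal 2
      exact ConjAct.normal_of_characteristic_of_normal
    set R : Subgroup H := N.map (pPrimeCore 2 H).subtype with hR
    have hRp : IsPGroup t R := hNp.map _
    have hRne : R ≠ ⊥ := by
      intro h
      rw [hR, map_eq_bot_iff_of_injective _ (subtype_injective _)] at h
      exact hN' h
    have htR : t ∣ Nat.card R := by
      obtain ⟨k, hk⟩ := hRp.exists_card_eq
      rw [hk]
      rcases Nat.eq_zero_or_pos k with h | h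
      · exfalso
        rw [h, pow_zero] at hk
        exact hRne (card_eq_one.1 hk)
      · exact dvd_pow_self t h.ne'
    have ht2 : t ≠ 2 := by
      rintro rfl
      have h1 : Nat.card R ∣ Nat.card ↥(pPrimeCore 2 H) := card_dvd_of_le (map_subtype_le _)
      have h2 := Nat.dvd_gcd (htR.trans h1) (dvd_refl 2)
      rw [hcop] at h2
      exact absurd h2 (by norm_num)
    have htH : t ∣ Nat.card H := htR.trans (card_subgroup_dvd_card R)
    obtain ⟨w, hw⟩ := exists_prime_orderOf_dvd_card' t htR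
    refine h.tor t (hP t ht ht2 htH) w (by rw [orderOf_coe, hw]) fun i => ?_
    have hnrm : Nrm (x i) R := fun a ha => hMn.conj_mem a ha (x i)
    exact (h.cx i t (hP t ht ht2 htH) R hRp hnrm w w.2).symm
  have hfit : fittingSubgroup H = pCore 2 H := PConstrained.fittingSubgroup_eq_pCore_of_pPrimeCore_eq_bot 2 hO
  suffices hlay : layer H = ⊥ by
    apply CharP.centralizer_pCore_le_of_genFitting_eq
    rw [generalizedFittingSubgroup, hlay, bot_sup_eq, hfit]
  by_contra hne
  rw [ComponentExists.layer_eq_bot_iff] at hne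
  push Not at hne
  obtain ⟨Y, hY⟩ := hne
  have hcx : ∀ i, ∀ r : ℕ, r.Prime → r ≠ 2 → r ∣ Nat.card H → CenR r (x i) := fun i r hr hr2 hrd =>
    h.cx i r (hP r hr hr2 hrd)
  have hcy : ∀ i, ∀ r : ℕ, r.Prime → r ≠ 2 → r ∣ Nat.card H → CenR r (y i) := fun i r hr hr2 hrd =>
    h.cy i r (hP r hr hr2 hrd)
  have hcomm : ∀ i, ∀ a ∈ Y, x i * a = a * x i := by
    intro i
    have hnx := mem_normalizer_component hY (h.four i) (hcx i)
    have hny := mem_normalizer_component hY (hy4 i) (hcy i)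
    exact commutes_of_sq hY.2 hnx (h.four i) (hcx i) (sq_commutes h3 hY.2 hnx hny (h.four i) (h.sq i) (h.inv i))
  obtain ⟨r, hr, hr2, hrd, -⟩ := exists_outside hY.2
  have := Fact.mk hr
  obtain ⟨w, hw⟩ := exists_prime_orderOf_dvd_card' r hrd
  exact h.tor r (hP r hr hr2 (hrd.trans (card_subgroup_dvd_card Y))) w (by rw [orderOf_coe, hw]) fun i =>
    (hcomm i w w.2).symm

end Cfsg.Agent.H558.Deg4Data
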