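import Cfsg.Agent.H558.Deg4Data.Block

/-!
# The standard quaternion torus

A family of pairwise disjoint pairs of indices covering all indices but at most one gives commuting matrices of order `4`, each moving only a
two-dimensional space, with a basis of joint eigenvectors having pairwise different joint eigenvalues, none of them `-1`.
-/

namespace Cfsg.Agent.H558.Deg4Data

open Matrix

variable {K : Type*} [Field K] {ι : Type*} [Fintype ι] [DecidableEq ι]

/-- The element of order `4` of `SL₂`. -/
def wq (K : Type*) [Field K] : Matrix (Fin 2) (Fin 2) K := !![0, 1; -1, 0]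

theorem wq_mul_self : wq K * wq K = -1 := by
  ext i j; fin_cases i <;> fin_cases j <;> simp [wq]

theorem wq_pow_four : wq K ^ 4 = 1 := by
  have : wq K ^ 4 = (wq K * wq K) * (wq K * wq K) := by noncomm_ring
  rw [this, wq_mul_self]; simp

theorem det_wq : (wq K).det = 1 := by simp [wq, Matrix.det_fin_two]

/-- The eigenvector attached to the index `j`. -/
noncomputable def evec {m : ℕ} (e : Fin m → Fin 2 → ι) (I : K) (j : ι) : ι → K := by
  classical
  exact if h : ∃ i, j = e i 0 then Pi.single (e h.choose 0) 1 + I • Pi.single (e h.choose 1) 1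
    else if h : ∃ i, j = e i 1 then Pi.single (e h.choose 0) 1 - I • Pi.single (e h.choose 1) 1
    else Pi.single j 1

/-- The eigenvalue of the `i`-th element on the eigenvector attached to `j`. -/
noncomputable def evl {m : ℕ} (e : Fin m → Fin 2 → ι) (I : K) (i : Fin m) (j : ι) : K := by
  classical
  exact if j = e i 0 then I else if j = e i 1 then -I else 1

/-- Disjoint pairs of indices. -/
structure Pairs {m : ℕ} (e : Fin m → Fin 2 → ι) : Prop where
  inj : ∀ i k i' k', e i k = e i' k' → i = i' ∧ k = k'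
  cover : ∀ j j', (∀ i k, j ≠ e i k) → (∀ i k, j' ≠ e i k) → j = j'

variable {m : ℕ} {e : Fin m → Fin 2 → ι}

theorem Pairs.injective (he : Pairs e) (i : Fin m) : Function.Injective (e i) :=
  fun k k' h => (he.inj i k i k' h).2

theorem evec_zero (he : Pairs e) (I : K) (i : Fin m) :
    evec e I (e i 0) = Pi.single (e i 0) 1 + I • Pi.single (e i 1) 1 := by
  classical
  unfold evec
  have h : ∃ i', e i 0 = e i' 0 := ⟨i, rfl⟩
  rw [dif_pos h]
  have := (he.inj _ _ _ _ h.choose_spec).1
  rw [← this]

theorem evec_one (he : Pairs e) (I : K) (i : Fin m) :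
    evec e I (e i 1) = Pi.single (e i 0) 1 - I • Pi.single (e i 1) 1 := by
  classical
  unfold evec
  have h : ∃ i', e i 1 = e i' 1 := ⟨i, rfl⟩
  rw [dif_neg, dif_pos h]
  · have := (he.inj _ _ _ _ h.choose_spec).1
    rw [← this]
  · rintro ⟨i', hi'⟩
    exact absurd (he.inj _ _ _ _ hi').2 (by decide)

theorem evec_other (I : K) {j : ι} (h : ∀ i k, j ≠ e i k) : evec e I j = Pi.single j 1 := by
  classical
  unfold evec
  rw [dif_neg (by rintro ⟨i, hi⟩; exact h _ _ hi), dif_neg (by rintro ⟨i, hi⟩; exact h _ _ hi)]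

theorem cases_idx (e : Fin m → Fin 2 → ι) (j : ι) :
    (∃ i, j = e i 0) ∨ (∃ i, j = e i 1) ∨ (∀ i k, j ≠ e i k) := by
  classical
  by_cases h0 : ∃ i, j = e i 0
  · exact Or.inl h0
  by_cases h1 : ∃ i, j = e i 1
  · exact Or.inr (Or.inl h1)
  · refine Or.inr (Or.inr fun i k h => ?_)
    fin_cases k
    · exact h0 ⟨i, h⟩
    · exact h1 ⟨i, h⟩

theorem colU_single (e' : Fin 2 → ι) (k : Fin 2) :
    colU (K := K) e' *ᵥ Pi.single k 1 = Pi.single (e' k) 1 := by
  ext i
  rw [Matrix.mulVec_single_one]
  simp only [Matrix.col_apply, colU, Pi.single_apply]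


theorem colU_vec (e' : Fin 2 → ι) (a b : K) :
    colU (K := K) e' *ᵥ ![a, b] = a • Pi.single (e' 0) 1 + b • Pi.single (e' 1) 1 := by
  have h : (![a, b] : Fin 2 → K) = a • Pi.single 0 1 + b • Pi.single 1 1 := by
    ext k; fin_cases k <;> simp
  rw [h, Matrix.mulVec_add, Matrix.mulVec_smul, Matrix.mulVec_smul, colU_single, colU_single]

theorem evec_zero' (he : Pairs e) (I : K) (i : Fin m) : evec e I (e i 0) = colU (K := K) (e i) *ᵥ ![1, I] := by
  rw [evec_zero he, colU_vec, one_smul]

theorem evec_one' (he : Pairs e) (I : K) (i : Fin m) : evec e I (e i 1) = colU (K := K) (e i) *ᵥ ![1, -I] := by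
  rw [evec_one he, colU_vec, one_smul, neg_smul, sub_eq_add_neg]

theorem transpose_mulVec_single {e' : Fin 2 → ι} {j : ι} (h : ∀ k, j ≠ e' k) :
    (colU (K := K) e')ᵀ *ᵥ Pi.single j 1 = 0 := by
  rw [colU_transpose_mulVec]
  ext k
  simp [Pi.single_apply, (h k).symm]

theorem transpose_mulVec_evec (he : Pairs e) (I : K) {i : Fin m} {j : ι} (h : ∀ k, j ≠ e i k) :
    (colU (K := K) (e i))ᵀ *ᵥ evec e I j = 0 := by
  have key : ∀ i', i' ≠ i → ∀ k, (colU (K := K) (e i))ᵀ *ᵥ Pi.single (e i' k) 1 = 0 := fun i' hi' k =>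
    transpose_mulVec_single fun k' h' => hi' (he.inj _ _ _ _ h').1
  rcases cases_idx e j with ⟨i', rfl⟩ | ⟨i', rfl⟩ | h'
  · have hi' : i' ≠ i := fun h1 => h 0 (by rw [h1])
    rw [evec_zero he, Matrix.mulVec_add, Matrix.mulVec_smul, key i' hi', key i' hi']
    simp
  · have hi' : i' ≠ i := fun h1 => h 1 (by rw [h1])
    rw [evec_one he, Matrix.mulVec_sub, Matrix.mulVec_smul, key i' hi', key i' hi']
    simp
  · rw [evec_other I h']
    exact transpose_mulVec_single h

theorem wq_mulVec_pos {I : K} (hI : I * I = -1) : wq K *ᵥ ![1, I] = I • ![1, I] := by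
  ext k; fin_cases k <;> simp [wq, Matrix.mulVec, dotProduct, Fin.sum_univ_two, hI]

theorem wq_mulVec_neg {I : K} (hI : I * I = -1) : wq K *ᵥ ![1, -I] = (-I) • ![1, -I] := by
  ext k; fin_cases k <;> simp [wq, Matrix.mulVec, dotProduct, Fin.sum_univ_two, hI]

theorem evl_zero (he : Pairs e) (I : K) (i : Fin m) : evl e I i (e i 0) = I := by
  simp [evl]

theorem evl_one (he : Pairs e) (I : K) (i : Fin m) : evl e I i (e i 1) = -I := by
  have : e i 1 ≠ e i 0 := fun h => absurd (he.injective i h) (by decide)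
  simp [evl, this]

theorem evl_other (I : K) {i : Fin m} {j : ι} (h : ∀ k, j ≠ e i k) : evl e I i j = 1 := by
  simp [evl, h 0, h 1]

/-- **Joint eigenvectors.** -/
theorem blk_evec (he : Pairs e) {I : K} (hI : I * I = -1) (i : Fin m) (j : ι) :
    blk (colU (K := K) (e i)) (colU (K := K) (e i))ᵀ (wq K) *ᵥ evec e I j = evl e I i j • evec e I j := by
  by_cases h : ∀ k, j ≠ e i k
  · rw [blk_mulVec_of_eq_zero (transpose_mulVec_evec he I h), evl_other I h, one_smul]
  · push Not at h
    obtain ⟨k, rfl⟩ := h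
    have hU := colU_transpose_mul (K := K) (e i) (he.injective i)
    fin_cases k
    · show _ *ᵥ evec e I (e i 0) = evl e I i (e i 0) • evec e I (e i 0)
      rw [evl_zero he, evec_zero' he, blk_mulVec hU, wq_mulVec_pos hI, Matrix.mulVec_smul]
    · show _ *ᵥ evec e I (e i 1) = evl e I i (e i 1) • evec e I (e i 1)
      rw [evl_one he, evec_one' he, blk_mulVec hU, wq_mulVec_neg hI, Matrix.mulVec_smul]

theorem evl_sep (he : Pairs e) {I : K} (hI : I * I = -1) (h2 : (2 : K) ≠ 0) {j j' : ι} (hj : j ≠ j') :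
    ∃ i, evl e I i j ≠ evl e I i j' := by
  have hI0 : I ≠ 0 := by rintro rfl; simp at hI
  have hI1 : I ≠ 1 := by
    rintro rfl
    apply h2
    linear_combination hI
  have hIm : -I ≠ 1 := by
    intro h
    apply h2
    have : I = -1 := by linear_combination -h
    rw [this] at hI
    linear_combination hI
  have hII : I ≠ -I := by
    intro h
    have : 2 * I = 0 := by linear_combination h
    rcases mul_eq_zero.1 this with h | h
    · exact h2 h
    · exact hI0 h
  have key : ∀ (j j' : ι), j ≠ j' → (∃ i k, j = e i k) → ∃ i, evl e I i j ≠ evl e I i j' := by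
    rintro j j' hj ⟨i, k, rfl⟩
    refine ⟨i, ?_⟩
    by_cases h : ∀ k', j' ≠ e i k'
    · rw [evl_other I h]
      fin_cases k
      · show evl e I i (e i 0) ≠ 1
        rw [evl_zero he]; exact hI1
      · show evl e I i (e i 1) ≠ 1
        rw [evl_one he]; exact hIm
    · push Not at h
      obtain ⟨k', rfl⟩ := h
      have hk : k ≠ k' := fun h => hj (by rw [h])
      fin_cases k <;> fin_cases k'
      · exact absurd rfl hk
      · show evl e I i (e i 0) ≠ evl e I i (e i 1)
        rw [evl_zero he, evl_one he]; exact hII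
      · show evl e I i (e i 1) ≠ evl e I i (e i 0)
        rw [evl_zero he, evl_one he]; exact hII.symm
      · exact absurd rfl hk
  by_cases h1 : ∃ i k, j = e i k
  · exact key j j' hj h1
  by_cases h2' : ∃ i k, j' = e i k
  · obtain ⟨i, hi⟩ := key j' j hj.symm h2'
    exact ⟨i, hi.symm⟩
  · push Not at h1 h2'
    exact absurd (he.cover j j' h1 h2') hj

theorem evl_ne_neg_one (he : Pairs e) {I : K} (hI : I * I = -1) (h2 : (2 : K) ≠ 0) (i : Fin m) (j : ι) :
    evl e I i j ≠ -1 := by
  have hI1 : I ≠ -1 := by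
    rintro rfl
    apply h2
    linear_combination hI
  have hIm : -I ≠ -1 := by
    intro h
    apply h2
    have : I = 1 := by linear_combination -h
    rw [this] at hI
    linear_combination hI
  have h11 : (1 : K) ≠ -1 := by
    intro h
    apply h2
    linear_combination h
  by_cases h : ∀ k, j ≠ e i k
  · rw [evl_other I h]; exact h11
  · push Not at h
    obtain ⟨k, rfl⟩ := h
    fin_cases k
    · show evl e I i (e i 0) ≠ -1
      rw [evl_zero he]; exact hI1
    · show evl e I i (e i 1) ≠ -1
      rw [evl_one he]; exact hIm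

/-- The joint eigenvectors span. -/
theorem span_evec (he : Pairs e) {I : K} (hI : I * I = -1) (h2 : (2 : K) ≠ 0) :
    (⊤ : Submodule K (ι → K)) ≤ Submodule.span K (Set.range (evec e I)) := by
  have hI0 : I ≠ 0 := by rintro rfl; simp at hI
  have hmem : ∀ j, evec e I j ∈ Submodule.span K (Set.range (evec e I)) := fun j =>
    Submodule.subset_span ⟨j, rfl⟩
  have key : ∀ j : ι, Pi.single j 1 ∈ Submodule.span K (Set.range (evec e I)) := by
    intro j
    rcases cases_idx e j with ⟨i, rfl⟩ | ⟨i, rfl⟩ | h'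
    · have h1 := Submodule.smul_mem _ (2⁻¹ : K) (Submodule.add_mem _ (hmem (e i 0)) (hmem (e i 1)))
      have h3 : (2⁻¹ : K) • (evec e I (e i 0) + evec e I (e i 1)) = Pi.single (e i 0) 1 := by
        rw [evec_zero he, evec_one he]
        ext l
        simp only [Pi.smul_apply, Pi.add_apply, Pi.sub_apply, smul_eq_mul]
        field_simp
        ring
      rwa [h3] at h1
    · have h1 := Submodule.smul_mem _ ((2 * I)⁻¹ : K) (Submodule.sub_mem _ (hmem (e i 0)) (hmem (e i 1)))
      have h3 : ((2 * I)⁻¹ : K) • (evec e I (e i 0) - evec e I (e i 1)) = Pi.single (e i 1) 1 := by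
        rw [evec_zero he, evec_one he]
        ext l
        simp only [Pi.smul_apply, Pi.add_apply, Pi.sub_apply, smul_eq_mul]
        field_simp
        ring
      rwa [h3] at h1
    · have h1 := hmem j
      rwa [evec_other I h'] at h1
  intro v _
  have : v = ∑ j, v j • (Pi.single j 1 : ι → K) := by
    ext l
    simp [Finset.sum_apply, Pi.single_apply]
  rw [this]
  exact Submodule.sum_mem _ fun j _ => Submodule.smul_mem _ _ (key j)

/-- The basis of joint eigenvectors. -/
theorem exists_basis (he : Pairs e) {I : K} (hI : I * I = -1) (h2 : (2 : K) ≠ 0) :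
    ∃ b : Module.Basis ι K (ι → K), ∀ i j,
      blk (colU (K := K) (e i)) (colU (K := K) (e i))ᵀ (wq K) *ᵥ b j = evl e I i j • b j := by
  refine ⟨basisOfTopLeSpanOfCardEqFinrank (evec e I) (span_evec he hI h2) (by simp), fun i j => ?_⟩
  rw [coe_basisOfTopLeSpanOfCardEqFinrank]
  exact blk_evec he hI i j

end Cfsg.Agent.H558.Deg4Data
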