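import Cfsg.Agent.H558.Deg4Data.Groups

/-!
# Quaternion pairs in the two-dimensional blocks of `SL_n(q)`, `SU_n(q)`, `Sp_2m(q)`, `q` odd
-/

namespace Cfsg.Agent.H558.Deg4Data

open Matrix

/-- `x, y` generate a quaternion group acting on a two-dimensional block. -/
structure QP {K ι G : Type*} [Field K] [Fintype ι] [DecidableEq ι] [Group G] (ρ : G →* Matrix ι ι K) (x y : G) : Prop where
  four : x ^ 4 = 1
  sq : y * y = x * x
  inv : y * x * y⁻¹ = x⁻¹
  rk : (ρ (x * x) - 1).rank ≤ 2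
  nx : ∀ v, ρ x *ᵥ v = -v → v = 0
  ny : ∀ v, ρ y *ᵥ v = -v → v = 0

/-- The quaternion data. -/
def DegQ {K ι G : Type*} [Field K] [Fintype ι] [DecidableEq ι] [Group G] (ρ : G →* Matrix ι ι K) : Prop :=
  ∃ (m : ℕ) (x y : Fin m → G) (b : Module.Basis ι K (ι → K)) (ev : Fin m → ι → K),
    (∀ i, QP ρ (x i) (y i)) ∧
    (∀ i j, i ≠ j → Commute (x i) (x j) ∧ Commute (x i) (y j) ∧ Commute (y i) (y j)) ∧
    (∀ i j, ρ (x i) *ᵥ b j = ev i j • b j) ∧ ∀ j j', j ≠ j' → ∃ i, ev i j ≠ ev i j'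

section

variable {F K : Type*} [Field F] [Field K] {ι : Type*} [Fintype ι] [DecidableEq ι] {m : ℕ}
  {e : Fin m → Fin 2 → ι}

/-- A second element of order four, anticommuting with `wq`. -/
def yq (s t : F) : Matrix (Fin 2) (Fin 2) F := !![s, t; t, -s]

theorem yq_mul_self {s t : F} (h : s * s + t * t = -1) : yq s t * yq s t = -1 := by
  ext i j
  fin_cases i <;> fin_cases j <;> simp [yq, Matrix.mul_apply, Fin.sum_univ_two] <;>
    first | linear_combination h | ring

theorem det_yq {s t : F} (h : s * s + t * t = -1) : (yq s t).det = 1 := by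
  rw [yq, Matrix.det_fin_two_of]; linear_combination -h

theorem yq_mul_wq (s t : F) : yq s t * wq F = - (wq F * yq s t) := by
  ext i j
  fin_cases i <;> fin_cases j <;> simp [yq, wq, Matrix.mul_apply, Fin.sum_univ_two]

theorem map_yq (f : F →+* K) (s t : F) : (yq s t).map f = yq (f s) (f t) := by
  ext i j; fin_cases i <;> fin_cases j <;> simp [yq]

theorem colU_transpose_mul_of_ne {e1 e2 : Fin 2 → ι} (h : ∀ k l, e1 k ≠ e2 l) :
    (colU (K := F) e1)ᵀ * colU (K := F) e2 = 0 := by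
  ext k l
  rw [Matrix.mul_apply]
  simp only [Matrix.transpose_apply, colU, Matrix.zero_apply]
  refine Finset.sum_eq_zero fun i _ => ?_
  by_cases h1 : i = e1 k
  · have : i ≠ e2 l := fun h2 => h k l (h1.symm.trans h2)
    simp [this]
  · simp [h1]

theorem bm_commute {e1 e2 : Fin 2 → ι} (h : ∀ k l, e1 k ≠ e2 l) (A B : Matrix (Fin 2) (Fin 2) F) :
    bm e1 A * bm e2 B = bm e2 B * bm e1 A := by
  have h1 := colU_transpose_mul_of_ne (F := F) h
  have h2 := colU_transpose_mul_of_ne (F := F) (e1 := e2) (e2 := e1) (fun k l => (h l k).symm)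
  unfold bm blk
  set U := colU (K := F) e1
  set W := colU (K := F) e2
  have a1 : U * (A - 1) * Uᵀ * (W * (B - 1) * Wᵀ) = 0 := by
    calc U * (A - 1) * Uᵀ * (W * (B - 1) * Wᵀ) = U * (A - 1) * (Uᵀ * W) * (B - 1) * Wᵀ := by
          simp only [Matrix.mul_assoc]
      _ = 0 := by rw [h1]; simp
  have a2 : W * (B - 1) * Wᵀ * (U * (A - 1) * Uᵀ) = 0 := by
    calc W * (B - 1) * Wᵀ * (U * (A - 1) * Uᵀ) = W * (B - 1) * (Wᵀ * U) * (A - 1) * Uᵀ := by
          simp only [Matrix.mul_assoc]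
      _ = 0 := by rw [h2]; simp
  rw [Matrix.add_mul, Matrix.mul_add, Matrix.mul_add, a1, Matrix.add_mul, Matrix.mul_add, Matrix.mul_add, a2]
  simp only [Matrix.one_mul, Matrix.mul_one]
  abel

/-- A block whose square is `-1` has no eigenvalue `-1`. -/
theorem bm_no_neg {e' : Fin 2 → ι} (he : Function.Injective e') (h2 : (2 : F) ≠ 0) {B : Matrix (Fin 2) (Fin 2) F}
    (hB : B * B = -1) (v : ι → F) (hv : bm e' B *ᵥ v = -v) : v = 0 := by
  have hU := colU_transpose_mul (K := F) e' he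
  have h3 : bm e' (B * B) *ᵥ v = v := by
    rw [bm_mul he, ← Matrix.mulVec_mulVec, hv, Matrix.mulVec_neg, hv, neg_neg]
  -- `v` is fixed by `bm (-1)`, so its block part vanishes
  have h4 : (colU (K := F) e')ᵀ *ᵥ v = 0 := by
    rw [hB] at h3
    have h5 := congrArg (fun u => (colU (K := F) e')ᵀ *ᵥ u) h3
    rw [Matrix.mulVec_mulVec] at h5
    have h6 : (colU (K := F) e')ᵀ * bm e' (-1 : Matrix (Fin 2) (Fin 2) F) = -(colU (K := F) e')ᵀ := by
      unfold bm blk
      rw [Matrix.mul_add, Matrix.mul_one, Matrix.mul_assoc (colU (K := F) e'), ← Matrix.mul_assoc, hU, Matrix.one_mul,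
        Matrix.sub_mul, Matrix.neg_mul, Matrix.one_mul]
      abel
    rw [h6, Matrix.neg_mulVec] at h5
    have h7 : (2 : F) • ((colU (K := F) e')ᵀ *ᵥ v) = 0 := by
      rw [two_smul]
      nth_rewrite 1 [← h5]
      exact neg_add_cancel _
    exact (smul_eq_zero.1 h7).resolve_left h2
  have h8 : bm e' B *ᵥ v = v := blk_mulVec_of_eq_zero h4 B
  rw [h8] at hv
  have h9 : (2 : F) • v = 0 := by
    rw [two_smul]
    nth_rewrite 1 [hv]
    exact neg_add_cancel _
  exact (smul_eq_zero.1 h9).resolve_left h2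

/-- The quaternion data from the blocks. -/
theorem degQ_of {G : Type*} [Group G] (ρ : G →* Matrix ι ι K) (hρ : Function.Injective ρ) (he : Pairs e)
    (hI : ∃ I : K, I * I = -1) (h2 : (2 : K) ≠ 0) {s t : K} (hst : s * s + t * t = -1)
    (hx : ∀ i, ∃ x : G, ρ x = bm (e i) (wq K)) (hy : ∀ i, ∃ y : G, ρ y = bm (e i) (yq s t)) : DegQ ρ := by
  obtain ⟨I, hI⟩ := hI
  choose x hx using hx
  choose y hy using hy
  obtain ⟨b, hb⟩ := exists_basis he hI h2
  have hne : ∀ i j, i ≠ j → ∀ k l, e i k ≠ e j l := fun i j hij k l h => hij (he.inj _ _ _ _ h).1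
  refine ⟨m, x, y, b, evl e I, fun i => ⟨?_, ?_, ?_, ?_, ?_, ?_⟩, fun i j hij => ⟨?_, ?_, ?_⟩, fun i j => ?_,
    fun j j' hj => evl_sep he hI h2 hj⟩
  · apply hρ
    rw [map_pow, hx, ← bm_pow (he.injective i), wq_pow_four, bm_one, map_one]
  · apply hρ
    rw [map_mul, map_mul, hx, hy, ← bm_mul (he.injective i), ← bm_mul (he.injective i), wq_mul_self, yq_mul_self hst]
  · have h1 : y i * x i = (x i)⁻¹ * y i := by
      rw [eq_inv_mul_iff_mul_eq]
      apply hρ
      rw [map_mul, map_mul, hx, hy, ← bm_mul (he.injective i), ← bm_mul (he.injective i), yq_mul_wq, Matrix.mul_neg,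
        ← Matrix.mul_assoc, wq_mul_self, Matrix.neg_mul, Matrix.one_mul, neg_neg]
    rw [h1, mul_inv_cancel_right]
  · rw [map_mul, hx, ← bm_mul (he.injective i)]
    exact rank_bm_sub_one _ _
  · intro v hv
    rw [hx] at hv
    exact bm_no_neg (he.injective i) h2 wq_mul_self v hv
  · intro v hv
    rw [hy] at hv
    exact bm_no_neg (he.injective i) h2 (yq_mul_self hst) v hv
  · apply hρ
    rw [map_mul, map_mul, hx, hx]
    exact bm_commute (hne i j hij) _ _
  · apply hρ
    rw [map_mul, map_mul, hx, hy]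
    exact bm_commute (hne i j hij) _ _
  · apply hρ
    rw [map_mul, map_mul, hy, hy]
    exact bm_commute (hne i j hij) _ _
  · rw [hx]; exact hb i j

/-- Two squares with sum `-1` in a finite field of odd characteristic. -/
theorem exists_two_sq [Fintype F] : ∃ s t : F, s * s + t * t = -1 := by
  obtain ⟨p, hp⟩ := CharP.exists F
  have hp0 : NeZero p := ⟨fun h => by
    subst h
    have : CharZero F := CharP.charP_to_charZero F
    exact not_finite F⟩
  obtain ⟨a, b, h⟩ := CharP.sq_add_sq F p (-1)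
  refine ⟨a, b, ?_⟩
  rw [← pow_two, ← pow_two, h]
  simp

/-- Two antihermitian numbers whose squares have sum `-1`. -/
theorem exists_two_sq_anti [Fintype F] {q : ℕ} (hF : Fintype.card F = q ^ 2) (h2 : (2 : F) ≠ 0)
    (hI : ∃ I : F, I * I = -1) : ∃ s t : F, s * s + t * t = -1 ∧ s ^ q = -s ∧ t ^ q = -t := by
  obtain ⟨σ, hσ⟩ := ClassicalGeometry.GUBasic.exists_powHom hF
  have hq := ClassicalGeometry.GUBasic.two_le hF
  obtain ⟨I, hI⟩ := hI
  have hI0 : I ≠ 0 := by rintro rfl; simp at hI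
  have hσ2 : ∀ x : F, σ (σ x) = x := by
    intro x
    rw [hσ, hσ, ← pow_mul, ← pow_two, ← hF, FiniteField.pow_card]
  have hcase : σ I = I ∨ σ I = -I := by
    have h1 : (σ I - I) * (σ I + I) = 0 := by
      have : σ I * σ I = -1 := by rw [← map_mul, hI, map_neg, map_one]
      linear_combination this - hI
    rcases mul_eq_zero.1 h1 with h | h
    · exact Or.inl (sub_eq_zero.1 h)
    · exact Or.inr (eq_neg_of_add_eq_zero_left h)
  rcases hcase with h | h
  · obtain ⟨x, hx⟩ : ∃ x : F, σ x ≠ x := by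
      by_contra hcon
      push Not at hcon
      have h1 : ∀ x : F, x ^ q = x := fun x => by rw [← hσ, hcon]
      have h3 := FiniteField.X_pow_card_sub_X_ne_zero F (p := q) (by omega)
      have h4 : Fintype.card F ≤ q := by
        have h5 : (Finset.univ : Finset F).card ≤ (Polynomial.X ^ q - Polynomial.X : Polynomial F).natDegree := by
          apply Polynomial.card_le_degree_of_subset_roots
          intro x _
          rw [Polynomial.mem_roots h3]
          simp [h1 x]
        rwa [FiniteField.X_pow_card_sub_X_natDegree_eq F (by omega), Finset.card_univ] at h5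
      rw [hF] at h4
      nlinarith
    obtain ⟨d, hd0, hd⟩ : ∃ d : F, d ≠ 0 ∧ σ d = -d :=
      ⟨x - σ x, fun h => hx (sub_eq_zero.1 h).symm, by rw [map_sub, hσ2]; ring⟩
    refine ⟨(d - d⁻¹) / 2, (d + d⁻¹) / (2 * I), ?_, ?_, ?_⟩
    · have h3 : I ^ 2 = -1 := by rw [pow_two, hI]
      have h4 : (2 * I) * (2 * I) = -4 := by linear_combination 4 * hI
      have h5 : (d - d⁻¹) / 2 * ((d - d⁻¹) / 2) = (d - d⁻¹) * (d - d⁻¹) / 4 := by
        rw [div_mul_div_comm]; congr 1; norm_num
      have h6 : (d + d⁻¹) / (2 * I) * ((d + d⁻¹) / (2 * I)) = - ((d + d⁻¹) * (d + d⁻¹) / 4) := by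
        rw [div_mul_div_comm, h4, div_neg]
      have h44 : (4 : F) ≠ 0 := by
        have : (4 : F) = 2 * 2 := by norm_num
        rw [this]; exact mul_ne_zero h2 h2
      have h7 : d * d⁻¹ = 1 := mul_inv_cancel₀ hd0
      rw [h5, h6, ← sub_eq_add_neg, ← sub_div, div_eq_iff h44]
      linear_combination -4 * h7
    · rw [← hσ, map_div₀, map_sub, map_inv₀, hd, map_ofNat, inv_neg]
      ring
    · rw [← hσ, map_div₀, map_add, map_inv₀, hd, map_mul, map_ofNat, h, inv_neg]
      ring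
  · refine ⟨0, -I, by linear_combination hI, by rw [zero_pow (by omega), neg_zero], ?_⟩
    rw [← hσ, map_neg, h]

end

section Groups

variable {F K : Type*} [Field F] [Field K] (f : F →+* K)

include f in
theorem two_ne_map (h2 : (2 : F) ≠ 0) : (2 : K) ≠ 0 := by
  intro h
  apply h2
  apply f.injective
  rw [map_ofNat, map_zero]; exact h

theorem map_two_sq {s t : F} (h : s * s + t * t = -1) : f s * f s + f t * f t = -1 := by
  rw [← map_mul, ← map_mul, ← map_add, h, map_neg, map_one]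

theorem degQ_SL [Fintype F] (h2 : (2 : F) ≠ 0) (hI : ∃ I : K, I * I = -1) (n : ℕ) : DegQ (rhoSL f n) := by
  obtain ⟨s, t, hst⟩ := exists_two_sq (F := F)
  refine degQ_of (rhoSL f n) (rhoSL_injective f n) (pairs_fin n) hI (two_ne_map f h2) (map_two_sq f hst)
    (fun i => ?_) fun i => ?_
  · refine ⟨(⟨bm _ (wq F), (det_bm ((pairs_fin n).injective i) _).trans det_wq⟩ :
      Matrix.SpecialLinearGroup (Fin n) F), ?_⟩
    show (bm _ (wq F)).map f = _
    rw [map_bm, map_wq]
  · refine ⟨(⟨bm _ (yq s t), (det_bm ((pairs_fin n).injective i) _).trans (det_yq hst)⟩ :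
      Matrix.SpecialLinearGroup (Fin n) F), ?_⟩
    show (bm _ (yq s t)).map f = _
    rw [map_bm, map_yq]

theorem degQ_SU [Fintype F] {q n : ℕ} (hF : Fintype.card F = q ^ 2) (h2 : (2 : F) ≠ 0) (hIF : ∃ I : F, I * I = -1) :
    DegQ (rhoSU f n q) := by
  have hI : ∃ I : K, I * I = -1 := by
    obtain ⟨I, hI⟩ := hIF
    exact ⟨f I, by rw [← map_mul, hI, map_neg, map_one]⟩
  obtain ⟨s, t, hst, hs, ht⟩ := exists_two_sq_anti hF h2 hIF
  obtain ⟨σ, hσ⟩ := ClassicalGeometry.GUBasic.exists_powHom hF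
  have hσ' : (fun x : F => x ^ q) = σ := by ext x; rw [hσ]
  refine degQ_of (rhoSU f n q) (rhoSU_injective f n q) (pairs_fin n) hI (two_ne_map f h2) (map_two_sq f hst)
    (fun i => ?_) fun i => ?_
  · have he := (pairs_fin n).injective i
    refine ⟨⟨⟨bm _ (wq F), (det_bm he _).trans det_wq⟩, mem_SU_of hF _ ?_⟩, ?_⟩
    · show (bm _ (wq F))ᵀ * (bm _ (wq F)).map (fun x => x ^ q) = 1
      rw [hσ', map_bm, map_wq, bm_transpose, ← bm_mul he]
      have : (wq F)ᵀ * wq F = 1 := by
        ext i j; fin_cases i <;> fin_cases j <;> simp [wq, Matrix.mul_apply, Fin.sum_univ_two]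
      rw [this, bm_one]
    · rw [rhoSU_apply]
      show (bm _ (wq F)).map f = _
      rw [map_bm, map_wq]
  · have he := (pairs_fin n).injective i
    refine ⟨⟨⟨bm _ (yq s t), (det_bm he _).trans (det_yq hst)⟩, mem_SU_of hF _ ?_⟩, ?_⟩
    · show (bm _ (yq s t))ᵀ * (bm _ (yq s t)).map (fun x => x ^ q) = 1
      rw [hσ', map_bm, map_yq, bm_transpose, ← bm_mul he]
      have h3 : σ s = -s := by rw [hσ, hs]
      have h4 : σ t = -t := by rw [hσ, ht]
      have : (yq s t)ᵀ * yq (σ s) (σ t) = 1 := by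
        rw [h3, h4]
        ext i j
        fin_cases i <;> fin_cases j <;> simp [yq, Matrix.mul_apply, Fin.sum_univ_two] <;>
          first | linear_combination -hst | ring
      rw [this, bm_one]
    · rw [rhoSU_apply]
      show (bm _ (yq s t)).map f = _
      rw [map_bm, map_yq]

theorem degQ_Sp [Fintype F] (h2 : (2 : F) ≠ 0) (hI : ∃ I : K, I * I = -1) (m : ℕ) : DegQ (rhoSp f m) := by
  obtain ⟨s, t, hst⟩ := exists_two_sq (F := F)
  refine degQ_of (rhoSp f m) (rhoSp_injective f m) (pairs_spIdx m) hI (two_ne_map f h2) (map_two_sq f hst)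
    (fun i => ?_) fun i => ?_
  · refine ⟨⟨bm _ (wq F), bm_mem_sp i _ det_wq⟩, ?_⟩
    rw [rhoSp_apply]
    show (bm _ (wq F)).map f = _
    rw [map_bm, map_wq]
  · refine ⟨⟨bm _ (yq s t), bm_mem_sp i _ (det_yq hst)⟩, ?_⟩
    rw [rhoSp_apply]
    show (bm _ (yq s t)).map f = _
    rw [map_bm, map_yq]

end Groups

end Cfsg.Agent.H558.Deg4Data
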