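import Cfsg.Agent.H558.Deg4Data.Down
import Cfsg.Agent.H478.CycConjQuot

/-!
# The data in the simple group
-/

namespace Cfsg.Agent.H558.Deg4Data

open Subgroup Cfsg.Agent.H167.OP

/-- The relevant primes. -/
def GoodP (q p r : ℕ) : Prop := r.Prime ∧ 5 ≤ r ∧ r ≠ p ∧ ¬ r ∣ q ^ 2 - 1

/-- Quaternion pairs in a group which centralise the `r`-subgroups which they normalise. -/
structure SData {S : Type*} [Group S] (P : ℕ → Prop) {m : ℕ} (x y : Fin m → S) : Prop where
  four : ∀ i, x i ^ 4 = 1
  sq : ∀ i, y i * y i = x i * x i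
  inv : ∀ i, y i * x i * (y i)⁻¹ = (x i)⁻¹
  two : IsPGroup 2 (closure (Set.range x ∪ Set.range y))
  cx : ∀ i r, P r → CenR r (x i)
  cy : ∀ i r, P r → CenR r (y i)
  tor : ∀ r, P r → ∀ h : S, orderOf h = r → ¬ ∀ i, h * x i = x i * h

section two

variable {G : Type*} [Group G]

theorem isPGroup_pair {x y : G} (h4 : x ^ 4 = 1) (hsq : y * y = x * x) (hinv : y * x * y⁻¹ = x⁻¹) :
    IsPGroup 2 (closure ({x, y} : Set G)) := by
  have hx : IsPGroup 2 (zpowers x) := by
    refine IsPGroup.of_card_dvd_pow ?_ (n := 2)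
    rw [Nat.card_zpowers]
    exact orderOf_dvd_of_pow_eq_one h4
  have hy : IsPGroup 2 (zpowers y) := by
    refine IsPGroup.of_card_dvd_pow ?_ (n := 2)
    rw [Nat.card_zpowers]
    apply orderOf_dvd_of_pow_eq_one
    have : y ^ 2 ^ 2 = (y * y) * (y * y) := by
      rw [show (2 : ℕ) ^ 2 = 4 from rfl]; simp only [pow_succ, pow_zero, one_mul, mul_assoc]
    rw [this, hsq, ← h4]
    simp only [pow_succ, pow_zero, one_mul, mul_assoc]
  have hn : zpowers y ≤ normalizer (zpowers x : Set G) := by
    rw [zpowers_le, mem_normalizer_iff]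
    have h1 : ∀ g, g ∈ zpowers x → y * g * y⁻¹ ∈ zpowers x := by
      rintro _ ⟨n, rfl⟩
      show y * x ^ n * y⁻¹ ∈ zpowers x
      rw [← conj_zpow, hinv]
      exact zpow_mem (inv_mem (mem_zpowers x)) n
    have hinv' : y⁻¹ * x * y = x⁻¹ := by
      have : x = (y * x * y⁻¹)⁻¹ := by rw [hinv, inv_inv]
      nth_rewrite 1 [this]; group
    intro g
    refine ⟨h1 g, fun hg => ?_⟩
    obtain ⟨n, hn⟩ := hg
    have h2 : g = (y⁻¹ * x * y) ^ n := by
      have h3 : (y⁻¹ * x * y) ^ n = y⁻¹ * x ^ n * y := by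
        have := conj_zpow (a := y⁻¹) (b := x) (i := n)
        rwa [inv_inv] at this
      rw [h3]
      change x ^ n = y * g * y⁻¹ at hn
      rw [hn]; group
    rw [h2, hinv']
    exact zpow_mem (inv_mem (mem_zpowers x)) n
  have h := IsPGroup.to_sup_of_normal_left' hx hy hn
  refine h.to_le ?_
  rw [closure_le]
  rintro a (rfl | rfl)
  · exact mem_sup_left (mem_zpowers _)
  · exact mem_sup_right (mem_zpowers _)

theorem isPGroup_closure {m : ℕ} {x y : Fin m → G} (h4 : ∀ i, x i ^ 4 = 1) (hsq : ∀ i, y i * y i = x i * x i)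
    (hinv : ∀ i, y i * x i * (y i)⁻¹ = (x i)⁻¹)
    (hc : ∀ i j, i ≠ j → Commute (x i) (x j) ∧ Commute (x i) (y j) ∧ Commute (y i) (y j)) :
    IsPGroup 2 (closure (Set.range x ∪ Set.range y)) := by
  classical
  let Q : Fin m → Subgroup G := fun i => closure {x i, y i}
  have hQ : ∀ i, IsPGroup 2 (Q i) := fun i => isPGroup_pair (h4 i) (hsq i) (hinv i)
  have hQc : ∀ i j, i ≠ j → Q i ≤ centralizer (Q j : Set G) := by
    intro i j hij
    rw [closure_le]
    have key : ∀ a ∈ ({x i, y i} : Set G), ∀ b ∈ ({x j, y j} : Set G), a * b = b * a := by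
      have h1 := hc i j hij
      have h2 := hc j i hij.symm
      rintro a (rfl | rfl) b (rfl | rfl)
      · exact h1.1
      · exact h1.2.1
      · exact h2.2.1.symm
      · exact h1.2.2
    intro a ha
    rw [SetLike.mem_coe, mem_centralizer_iff]
    intro b hb
    have h3 : Q j ≤ centralizer {a} := by
      rw [closure_le]
      intro b hb
      rw [SetLike.mem_coe, mem_centralizer_singleton_iff]
      exact (key a ha b hb).symm
    exact (mem_centralizer_singleton_iff.1 (h3 hb))
  have key : ∀ s : Finset (Fin m), IsPGroup 2 (⨆ i ∈ s, Q i : Subgroup G) := by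
    intro s
    induction s using Finset.induction with
    | empty =>
      rw [show (⨆ i ∈ (∅ : Finset (Fin m)), Q i) = ⊥ by simp]
      exact IsPGroup.of_bot
    | insert a s ha ih =>
      rw [Finset.iSup_insert]
      refine IsPGroup.to_sup_of_normal_left' (hQ a) ih ?_
      refine (iSup₂_le fun i hi => ?_).trans (centralizer_le_normalizer _)
      exact hQc i a (fun h => ha (h ▸ hi))
  refine (key Finset.univ).to_le ?_
  rw [closure_le]
  rintro a (⟨i, rfl⟩ | ⟨i, rfl⟩)
  · exact mem_iSup_of_mem i (mem_iSup_of_mem (Finset.mem_univ i) (subset_closure (by simp)))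
  · exact mem_iSup_of_mem i (mem_iSup_of_mem (Finset.mem_univ i) (subset_closure (by simp)))

end two

section tor

variable {K ι G : Type*} [Field K] [Fintype ι] [DecidableEq ι] [Group G]

/-- An element commuting with all `x i` has order dividing `q² - 1`. -/
theorem pow_eq_one_of_comm [Finite K] {q : ℕ} (hK : Nat.card K = q ^ 2) {ρ : G →* Matrix ι ι K}
    (hρ : Function.Injective ρ) {m : ℕ} {x : Fin m → G} {b : Module.Basis ι K (ι → K)} {ev : Fin m → ι → K}
    (hb : ∀ i j, (ρ (x i)).mulVec (b j) = ev i j • b j) (hsep : ∀ j j', j ≠ j' → ∃ i, ev i j ≠ ev i j') {g : G}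
    (hg : ∀ i, g * x i = x i * g) : g ^ (q ^ 2 - 1) = 1 := by
  classical
  have hdiag : ∀ j, ∃ c : K, (ρ g).mulVec (b j) = c • b j := by
    intro j
    refine ⟨b.repr ((ρ g).mulVec (b j)) j, ?_⟩
    apply b.repr.injective
    ext k
    rw [map_smul, Finsupp.smul_apply, Module.Basis.repr_self, Finsupp.single_apply]
    by_cases hk : j = k
    · subst hk; simp
    · rw [if_neg hk, smul_zero]
      obtain ⟨i, hi⟩ := hsep j k hk
      -- `x i` acts on `g b_j` by `ev i j`
      have h1 : (ρ (x i)).mulVec ((ρ g).mulVec (b j)) = ev i j • (ρ g).mulVec (b j) := by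
        rw [Matrix.mulVec_mulVec, ← map_mul, ← hg i, map_mul, ← Matrix.mulVec_mulVec, hb, Matrix.mulVec_smul]
      have h2 : ∀ u : ι → K, b.repr ((ρ (x i)).mulVec u) k = ev i k * b.repr u k := by
        intro u
        conv_lhs => rw [← b.sum_repr u]
        have h3 : (ρ (x i)).mulVec (∑ l, b.repr u l • b l) = ∑ l, b.repr u l • (ev i l • b l) := by
          rw [← Matrix.mulVecLin_apply, map_sum]
          refine Finset.sum_congr rfl fun l _ => ?_
          rw [map_smul, Matrix.mulVecLin_apply, hb]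
        rw [h3, map_sum, Finsupp.finsetSum_apply, Finset.sum_eq_single k]
        · rw [map_smul, map_smul, Finsupp.smul_apply, Finsupp.smul_apply, Module.Basis.repr_self, Finsupp.single_eq_same,
            smul_eq_mul, smul_eq_mul, mul_one, mul_comm]
        · intro l _ hl
          rw [map_smul, map_smul, Finsupp.smul_apply, Finsupp.smul_apply, Module.Basis.repr_self,
            Finsupp.single_eq_of_ne (by simpa using Ne.symm hl), smul_zero, smul_zero]
        · intro h; exact absurd (Finset.mem_univ _) h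
      have h4 := h2 ((ρ g).mulVec (b j))
      rw [h1, map_smul, Finsupp.smul_apply, smul_eq_mul] at h4
      have h5 : (ev i j - ev i k) * b.repr ((ρ g).mulVec (b j)) k = 0 := by rw [sub_mul, h4, sub_self]
      exact (mul_eq_zero.1 h5).resolve_left (sub_ne_zero.2 hi)
  choose c hc using hdiag
  have hpow : ∀ n : ℕ, ∀ j, (ρ (g ^ n)).mulVec (b j) = c j ^ n • b j := by
    intro n
    induction n with
    | zero => intro j; simp
    | succ n ih =>
      intro j
      rw [pow_succ', map_mul, ← Matrix.mulVec_mulVec, ih, Matrix.mulVec_smul, hc, smul_smul, pow_succ]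
  have hc0 : ∀ j, c j ≠ 0 := by
    intro j h0
    have h1 : (ρ g⁻¹).mulVec ((ρ g).mulVec (b j)) = b j := by
      rw [Matrix.mulVec_mulVec, ← map_mul, inv_mul_cancel, map_one, Matrix.one_mulVec]
    rw [hc, h0, zero_smul, Matrix.mulVec_zero] at h1
    exact b.ne_zero j h1.symm
  have hcq : ∀ j, c j ^ (q ^ 2 - 1) = 1 := by
    intro j
    have := Fintype.ofFinite K
    rw [← hK, Nat.card_eq_fintype_card]
    exact FiniteField.pow_card_sub_one_eq_one _ (hc0 j)
  apply hρ
  rw [map_one]
  apply Matrix.toLin'.injective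
  apply b.ext
  intro j
  rw [Matrix.toLin'_apply, hpow, hcq, one_smul, Matrix.toLin'_one]
  rfl

end tor

theorem exists_sData {K ι G S : Type*} [Field K] [Fintype ι] [DecidableEq ι] [Group G] [Group S] [Finite K] [Finite G]
    {q p : ℕ} {ρ : G →* Matrix ι ι K} (hK : Nat.card K = q ^ 2) (hch : CharP K p) (hp : p.Prime) (hp2 : p ≠ 2)
    (hd : Deg4 q ρ) (hQ : DegQ ρ) {f : G →* S} (hf : Function.Surjective f) (hker : ∀ z ∈ f.ker, ∃ c : K, ρ z = c • 1) :
    ∃ (m : ℕ) (x y : Fin m → S), SData (GoodP q p) x y := by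
  obtain ⟨m, x, y, b, ev, hxy, hcomm, hb, hsep⟩ := hQ
  have hz : ∀ z ∈ f.ker, ∀ g, z * g = g * z := by
    intro z hz g
    obtain ⟨c, hc⟩ := hker z hz
    apply hd.inj
    rw [map_mul, map_mul, hc, Matrix.smul_mul, Matrix.mul_smul, Matrix.one_mul, Matrix.mul_one]
  have hlin : ∀ r, GoodP q p r → LinHyp q p r ρ := fun r hr => ⟨hK, hch, hp, hp2, hd, hr.1, hr.2.2.1, hr.2.2.2⟩
  refine ⟨m, fun i => f (x i), fun i => f (y i), fun i => ?_, fun i => ?_, fun i => ?_, ?_, fun i r hr => ?_,
    fun i r hr => ?_, fun r hr h ho hcon => ?_⟩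
  · rw [← map_pow, (hxy i).four, map_one]
  · rw [← map_mul, ← map_mul, (hxy i).sq]
  · rw [← map_inv, ← map_inv, ← map_mul, ← map_mul, (hxy i).inv]
  · have h1 := (isPGroup_closure (fun i => (hxy i).four) (fun i => (hxy i).sq) (fun i => (hxy i).inv) hcomm).map f
    rw [MonoidHom.map_closure, Set.image_union, ← Set.range_comp, ← Set.range_comp] at h1
    exact h1
  · have := Fact.mk hr.1
    exact CenR.down hf hz fun N hN hxN => cen_of_rgroup (hlin r hr) hr.2.1 (hxy i).four (hxy i).rk (hxy i).nx hN hxN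
  · have := Fact.mk hr.1
    refine CenR.down hf hz fun N hN hxN => cen_of_rgroup (hlin r hr) hr.2.1 ?_ ?_ (hxy i).ny hN hxN
    · have h1 : y i ^ 4 = (y i * y i) * (y i * y i) := by simp only [pow_succ, pow_zero, one_mul, mul_assoc]
      rw [h1, (hxy i).sq, ← (hxy i).four]
      simp only [pow_succ, pow_zero, one_mul, mul_assoc]
    · rw [(hxy i).sq]; exact (hxy i).rk
  · -- the torus
    obtain ⟨g, hg, s, hs⟩ := Cfsg.Agent.H478.CycConjQuot.exists_lift f hr.1 hf (h := h) (k := 1) (by rw [pow_one]; exact ho)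
    have hgr : g ^ r ^ s = 1 := by rw [← hs]; exact pow_orderOf_eq_one g
    have hgx : ∀ i, g * x i = x i * g := by
      intro i
      have h1 : g * x i * g⁻¹ * (x i)⁻¹ ∈ f.ker := by
        rw [MonoidHom.mem_ker, map_mul, map_mul, map_mul, map_inv, map_inv, hg, hcon i]
        group
      set c := g * x i * g⁻¹ * (x i)⁻¹ with hc
      have h2 : c ^ 4 = 1 := by
        have h3 : g * x i * g⁻¹ = c * x i := by rw [hc]; group
        have h4 : (c * x i) ^ 4 = 1 := by rw [← h3, conj_pow, (hxy i).four, mul_one, mul_inv_cancel]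
        rw [(show Commute c (x i) from hz c h1 _).mul_pow, (hxy i).four, mul_one] at h4
        exact h4
      have h5 : c = 1 := comm_order (y := g) (d := x i) hgr h2
        (Nat.Coprime.pow_right _ (show Nat.Coprime 4 r from
          Nat.Coprime.pow_left 2 ((Nat.coprime_primes Nat.prime_two hr.1).2 (by have := hr.2.1; omega))))
        (hz c h1 g).symm hc.symm
      have h6 : g * x i = c * (x i * g) := by rw [hc]; group
      rw [h6, h5, one_mul]
    have h7 := pow_eq_one_of_comm hK hd.inj hb hsep hgx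
    have h8 : g = 1 := eq_one_of_coprime hgr h7 (Nat.Coprime.pow_left _ ((Nat.Prime.coprime_iff_not_dvd hr.1).2 hr.2.2.2))
    rw [h8, map_one] at hg
    rw [← hg, orderOf_one] at ho
    exact hr.1.one_lt.ne ho

end Cfsg.Agent.H558.Deg4Data
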